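import Cfsg.Agent.Lib.Helper16.FusMcL.Data

set_option autoImplicit false

/-!
# Checks for the 2-fusion system of the McLaughlin group

All checks are evaluated by the kernel on helper4's packed permutations.
-/

namespace Cfsg.Agent.Lib.Helper16.FusMcL

open Cfsg.Agent.Lib.Helper10.SX Cfsg.Agent.Lib.Helper4.McL

noncomputable section

/-- the centre of the table consists of the indices `0` and `72` -/
def cenB : Bool :=
  allLt 128 fun i => (i == 0 || i == 72) || !(allLt 128 fun j => mtS i j == mtS j i)

set_option maxRecDepth 1000000 in
theorem cenC : cenB = true := by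
  decide +kernel

/-- the index `72` is central -/
def commTB : Bool := allLt 128 fun i => mtS i 72 == mtS 72 i

set_option maxRecDepth 1000000 in
theorem commTC : commTB = true := by
  decide +kernel

set_option maxRecDepth 1000000 in
/-- the word with index `72` is the involution -/
theorem t72 : sigEq (wd SWs 72) tw = true := by
  decide +kernel

/-- factors -/
def gA (i : ℕ) : ℕ := gAl.getD i 0

/-- factors -/
def gB (i : ℕ) : ℕ := gBl.getD i 0

/-- factors -/
def gC (i : ℕ) : ℕ := gCl.getD i 0

/-- an index of an element with trivial square -/
def inv0 (x : ℕ) : Bool := Nat.blt x 128 && mtS x x == 0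

/-- every element is a product of three elements with trivial square -/
def genB : Bool :=
  allLt 128 fun i => inv0 (gA i) && inv0 (gB i) && inv0 (gC i) && mtS (mtS (gA i) (gB i)) (gC i) == i

set_option maxRecDepth 1000000 in
theorem genC : genB = true := by
  decide +kernel

/-- the elements of the table fix `13` and the pair `{1, 117}` -/
def fixB : Bool :=
  allLt 128 fun i => evW (wd SWs i) 13 == 13 &&
    ((evW (wd SWs i) 1 == 1 && evW (wd SWs i) 117 == 117) ||
      (evW (wd SWs i) 1 == 117 && evW (wd SWs i) 117 == 1))

set_option maxRecDepth 1000000 in
theorem fixC : fixB = true := by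
  decide +kernel

/-- the element with index `17` fixes no other point -/
def moveB : Bool := allLt 275 fun p => p == 13 || !(evW (wd SWs 17) p == p)

set_option maxRecDepth 1000000 in
theorem moveC : moveB = true := by
  decide +kernel

/-- moving elements -/
def oi (p : ℕ) : ℕ := oil.getD p 0

/-- moving elements -/
def oj (p : ℕ) : ℕ := ojl.getD p 0

/-- every other point has at least three images -/
def orbB : Bool :=
  allLt 275 fun p => (p == 13 || p == 1 || p == 117) ||
    (Nat.blt (oi p) 128 && Nat.blt (oj p) 128 && !(evW (wd SWs (oi p)) p == p) &&
      !(evW (wd SWs (oj p)) p == p) && !(evW (wd SWs (oi p)) p == evW (wd SWs (oj p)) p))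

set_option maxRecDepth 1000000 in
theorem orbC : orbB = true := by
  decide +kernel

/-- the words of the cosets commute with the involution -/
def cenRB : Bool := allLt 315 fun i => sigEq (wd RW i ++ tw) (tw ++ wd RW i)

set_option maxRecDepth 1000000 in
theorem cenRC : cenRB = true := by
  decide +kernel

/-- the code of the images of `13` and `{1, 117}` under a word -/
def codeOf (w : List ℕ) : ℕ :=
  evW w 13 * 75625 + min (evW w 1) (evW w 117) * 275 + max (evW w 1) (evW w 117)

set_option maxRecDepth 1000000 in
theorem codesC : incrFrom 0 ((List.range 315).map fun i => codeOf (wd RW i)) = true := by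
  decide +kernel

end

end Cfsg.Agent.Lib.Helper16.FusMcL
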