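import Mathlib
import Cfsg.Prelude.Def_FusionSystem
import Cfsg.Agent.Lib.Helper16.FusGen
import Cfsg.Agent.Lib.Helper16.FusGenIso
import Cfsg.Agent.Lib.Helper10.PGroupBasic

set_option autoImplicit false

/-! Simplicity of the 2-fusion system of a finite group `G'` with a self-normalizing Sylow
2-subgroup whose centre has order two (shape of `McL`).

Hypotheses (all on a model `G ≃* G'`): `S₀` a subgroup of the order of a Sylow 2-subgroup,
`z ∈ Z(S₀)` with `Z(S₀) ⊆ {1, z}`, `N_G(S₀) ≤ S₀`, and no proper fusion-closed subgroup of `S₀`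
contains `z`. -/

namespace Cfsg.Agent.Lib.Helper16.FusMcL

open Cfsg Cfsg.FusionSystem Cfsg.Agent.Lib.Helper16.FusGen Cfsg.Agent.Lib.Helper3.Fus

variable {G G' : Type*} [Group G] [Group G']

theorem isSimple_of_selfnorm [Finite G] [Finite G'] (φ : G ≃* G') (S₀ : Subgroup G) (z : G)
    (hcard : Nat.card S₀ = 2 ^ (Nat.card G).factorization 2)
    (hz1 : z ≠ 1) (hzS : z ∈ S₀)
    (hcen : ∀ x ∈ S₀, (∀ y ∈ S₀, x * y = y * x) → x = 1 ∨ x = z)
    (hN : ∀ g ∈ Subgroup.normalizer (S₀ : Set G), g ∈ S₀)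
    (hclosed : ∀ T : Subgroup G, T ≤ S₀ → z ∈ T → FClosed S₀ T → T = S₀)
    (S : Sylow 2 G') : (groupFusionSystem (S : Subgroup G')).IsSimple 2 := by
  have : Fact (Nat.Prime 2) := ⟨Nat.prime_two⟩
  have hS₀p : IsPGroup 2 S₀ := IsPGroup.of_card hcard
  apply Cfsg.Agent.Lib.Helper16.FusGen.isSimple_of_iso φ S₀ hcard
  · intro h
    rw [h, Subgroup.mem_bot] at hzS
    exact hz1 hzS
  · intro g hg
    have hgS : g ∈ S₀ := hN g hg
    apply Subgroup.subset_closure
    refine ⟨hg, S₀, le_rfl, Subgroup.le_normalizer, ?_, ?_⟩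
    · intro x hx
      rw [Cfsg.Agent.Lib.Helper26.mem_centralizerIn_iff] at hx
      exact hx.1
    · apply Subgroup.subset_closure
      refine ⟨hg, ?_⟩
      obtain ⟨k, hk⟩ := (IsPGroup.iff_orderOf.mp hS₀p) ⟨g, hgS⟩
      refine ⟨k, ?_⟩
      rw [← hk]
      exact (Subgroup.orderOf_mk g hgS).symm
  · intro T hTS hT hcl
    -- `T` is normal in `S₀`
    have hTn : ∀ s ∈ S₀, ∀ t ∈ T, s * t * s⁻¹ ∈ T := fun s hs t ht =>
      hcl t ht s (S₀.mul_mem (S₀.mul_mem hs (hTS ht)) (S₀.inv_mem hs))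
    have : Finite S₀ := Subgroup.instFiniteSubtypeMem S₀
    haveI : (T.subgroupOf S₀).Normal := by
      constructor
      intro n hn g
      rw [Subgroup.mem_subgroupOf] at hn ⊢
      simpa using hTn g g.2 n hn
    have hne : T.subgroupOf S₀ ≠ ⊥ := by
      intro h
      apply hT
      rw [Subgroup.eq_bot_iff_forall]
      intro x hx
      have : (⟨x, hTS hx⟩ : S₀) ∈ T.subgroupOf S₀ := by
        rw [Subgroup.mem_subgroupOf]; exact hx
      rw [h, Subgroup.mem_bot] at this
      exact congrArg Subtype.val this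
    obtain ⟨x, hxT, hxc, hx1⟩ :=
      Cfsg.Agent.Lib.Helper10.exists_mem_center_of_normal_ne_bot 2 hS₀p (T.subgroupOf S₀) hne
    have hxz : (x : G) = z := by
      rcases hcen x x.2 (fun y hy => by
        have := Subgroup.mem_center_iff.mp hxc ⟨y, hy⟩
        have h3 := congrArg Subtype.val this
        simpa using h3.symm) with h | h
      · exfalso; apply hx1; exact Subtype.ext h
      · exact h
    have hzT : z ∈ T := by
      rw [← hxz]; exact Subgroup.mem_subgroupOf.mp hxT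
    exact hclosed T hTS hzT hcl

end Cfsg.Agent.Lib.Helper16.FusMcL
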