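import Cfsg.Agent.Lib.Helper4.McL.AMain

set_option autoImplicit false

/-!
# Data for the 2-fusion system of the McLaughlin group (generated)

On helper4's model `P` of the McLaughlin group on 275 points with the Sylow 2-subgroup `S2` (128 words `SWs`,
table `mtS`): every element of `S2` as a product of at most three involutions, for every point outside the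
orbits `{13}`, `{1, 117}` two elements of `S2` giving it three different images, and 315 words for the cosets
of `S2` in the centraliser of the involution.
-/

namespace Cfsg.Agent.Lib.Helper16.FusMcL

/-- first factors -/
def gAl : List ℕ := [0, 0, 0, 0, 0, 0, 0, 0, 0, 0, 0, 0, 0, 0, 0, 0, 0, 2, 0, 2, 0, 0, 0, 0, 0, 0, 0, 0, 0, 0, 0, 0, 0, 0, 0, 0, 0, 0, 0, 0, 0, 0, 0, 0, 0, 0, 0, 0, 2, 0, 0, 2, 0, 0, 0, 0, 0, 0, 0, 0, 0, 0, 0, 0, 0, 0, 0, 0, 2, 0, 2, 0, 0, 0, 0, 0, 0, 0, 0, 0, 2, 0, 0, 2, 0, 0, 0, 0, 0, 0, 2, 2, 0, 0, 2, 2, 0, 0, 0, 0, 0, 0, 0, 0, 0, 0, 0, 0, 0, 0, 0, 0, 0, 2, 2, 0, 0, 0, 0, 0, 0, 2, 2, 0, 0, 0, 0, 0]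

/-- second factors -/
def gBl : List ℕ := [0, 0, 0, 0, 0, 2, 1, 3, 0, 2, 3, 1, 0, 2, 3, 1, 8, 8, 20, 20, 0, 2, 1, 3, 0, 2, 1, 3, 0, 2, 1, 3, 0, 0, 0, 0, 1, 3, 2, 0, 0, 2, 3, 1, 1, 0, 2, 3, 12, 12, 8, 8, 0, 0, 2, 2, 1, 2, 3, 0, 2, 3, 1, 0, 0, 2, 1, 3, 12, 8, 20, 8, 0, 0, 0, 0, 2, 1, 3, 0, 8, 12, 20, 8, 0, 3, 2, 1, 8, 8, 12, 20, 8, 12, 12, 8, 0, 2, 2, 0, 32, 4, 32, 33, 0, 0, 0, 0, 3, 0, 2, 1, 8, 20, 8, 20, 4, 32, 33, 32, 12, 8, 8, 20, 2, 0, 3, 1]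

/-- third factors -/
def gCl : List ℕ := [0, 1, 2, 3, 4, 84, 40, 79, 8, 39, 28, 24, 12, 64, 20, 63, 109, 109, 53, 53, 20, 63, 64, 12, 24, 28, 8, 39, 28, 24, 39, 8, 32, 33, 34, 35, 28, 24, 8, 39, 40, 79, 84, 4, 59, 45, 125, 109, 96, 96, 59, 59, 52, 53, 96, 99, 45, 109, 125, 59, 20, 64, 12, 63, 64, 12, 20, 63, 125, 99, 59, 96, 72, 73, 74, 75, 40, 84, 4, 79, 52, 109, 45, 53, 84, 40, 4, 79, 52, 53, 109, 45, 45, 52, 52, 45, 96, 52, 53, 99, 52, 109, 53, 96, 104, 105, 106, 107, 45, 109, 59, 125, 125, 99, 125, 99, 125, 99, 52, 96, 125, 99, 96, 59, 45, 125, 59, 109]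

/-- first moving element -/
def oil : List ℕ := [72, 0, 72, 11, 72, 72, 72, 72, 72, 72, 72, 72, 72, 0, 72, 72, 72, 72, 72, 72, 72, 72, 72, 72, 72, 72, 72, 72, 72, 11, 72, 11, 72, 72, 72, 72, 11, 72, 72, 72, 72, 72, 11, 72, 72, 72, 72, 72, 11, 72, 72, 72, 72, 11, 72, 72, 72, 72, 72, 72, 72, 72, 72, 72, 72, 72, 72, 72, 11, 72, 72, 72, 72, 72, 72, 72, 72, 72, 72, 72, 72, 72, 72, 72, 72, 72, 72, 72, 72, 72, 72, 72, 72, 72, 11, 72, 72, 72, 72, 72, 72, 72, 72, 72, 72, 72, 72, 72, 11, 72, 72, 72, 11, 72, 72, 72, 72, 0, 72, 11, 72, 72, 72, 72, 11, 11, 72, 72, 11, 72, 72, 72, 72, 72, 72, 72, 72, 72, 72, 72, 72, 72, 72, 72, 11, 72,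 72, 72, 72, 72, 72, 72, 72, 72, 72, 72, 11, 11, 72, 72, 72, 72, 72, 72, 72, 72, 72, 72, 72, 72, 11, 11, 72, 72, 72, 72, 72, 72, 72, 11, 72, 72, 72, 72, 72, 72, 72, 72, 72, 72, 11, 72, 72, 72, 72, 72, 72, 72, 72, 72, 72, 72, 72, 72, 72, 11, 72, 72, 72, 72, 72, 72, 72, 72, 11, 72, 72, 11, 72, 72, 72, 72, 72, 11, 72, 72, 72, 72, 72, 72, 72, 72, 72, 72, 72, 11, 72, 72, 72, 72, 72, 72, 11, 72, 11, 72, 72, 72, 72, 72, 72, 72, 72, 72, 72, 72, 72, 72, 11, 72, 72, 72, 72, 72, 72, 72, 72, 72, 11, 72, 72, 72, 72, 72, 11]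

/-- second moving element -/
def ojl : List ℕ := [11, 0, 11, 10, 11, 11, 11, 11, 11, 11, 11, 11, 11, 0, 11, 11, 11, 11, 11, 11, 11, 11, 11, 11, 11, 11, 11, 11, 11, 26, 11, 17, 11, 11, 11, 11, 26, 11, 11, 11, 11, 11, 26, 11, 11, 11, 11, 11, 10, 11, 11, 11, 11, 26, 11, 11, 11, 11, 11, 11, 11, 11, 11, 11, 11, 11, 11, 11, 26, 11, 11, 11, 11, 11, 11, 11, 11, 11, 11, 11, 11, 11, 11, 11, 11, 11, 11, 11, 11, 11, 11, 11, 11, 11, 26, 11, 11, 11, 11, 11, 11, 11, 11, 11, 11, 11, 11, 103, 103, 11, 11, 11, 103, 11, 11, 11, 11, 0, 11, 26, 11, 11, 11, 11, 17, 26, 11, 11, 26, 11, 11, 11, 11, 11, 11, 11, 11, 11, 11, 11, 11, 11, 11, 11, 26,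 11, 11, 11, 11, 11, 11, 11, 11, 11, 11, 11, 10, 26, 11, 11, 11, 11, 103, 11, 11, 11, 11, 11, 11, 11, 10, 26, 11, 11, 11, 11, 11, 11, 11, 26, 11, 11, 11, 11, 11, 11, 11, 11, 11, 11, 26, 11, 11, 11, 11, 11, 11, 11, 11, 11, 11, 11, 11, 11, 11, 26, 11, 11, 11, 11, 11, 11, 11, 11, 26, 11, 11, 26, 103, 11, 11, 11, 11, 26, 11, 11, 11, 11, 11, 11, 103, 11, 11, 11, 11, 26, 103, 11, 11, 11, 11, 11, 26, 11, 26, 11, 11, 11, 11, 103, 11, 11, 11, 11, 11, 11, 11, 11, 26, 103, 103, 11, 11, 11, 11, 11, 11, 11, 26, 11, 11, 11, 11, 11, 26]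

set_option maxRecDepth 1000000 in
/-- words for the cosets -/
def RW : List (List ℕ) := [
  [1, 1, 1, 1, 2, 2, 0, 0, 2, 1, 2, 2, 1, 2, 2, 2, 2, 2, 0, 2, 1, 3, 1, 1, 1, 3, 1, 2, 0, 3, 1, 1, 2],
  [3, 1, 2, 0, 0, 2, 1, 2, 2, 0, 3, 1, 3, 0, 3, 3, 3, 2, 0, 0, 3, 0, 0, 3, 3, 3, 0, 0, 2, 0, 2, 1, 1, 0, 0, 0, 2, 2, 0, 2, 0, 2, 1, 3, 3, 3, 3, 1, 1],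
  [0, 3, 1, 3, 0, 2, 0, 0, 3, 0, 3, 3, 3, 0, 3, 1, 3, 1, 3, 3, 0, 3, 1, 1, 2, 1, 1, 2, 2, 1, 2, 2, 0, 1, 1, 2, 0, 0, 0, 2, 1, 3, 1, 2, 2, 2, 0, 0],
  [2, 2, 0, 2, 1, 3, 1, 1, 1, 3, 1, 2, 0, 3, 1, 1, 2, 0, 0, 0, 2, 2, 0, 2, 0, 2, 1, 3, 3, 3, 3, 1, 1, 1, 3, 3, 0, 3, 1, 1, 2, 1, 1, 2, 2, 1, 2, 2, 0],
  [2, 2, 0, 2, 1, 3, 1, 1, 1, 3, 1, 2, 0, 3, 1, 1, 2, 0, 0, 2, 0, 3, 3, 1, 3, 1, 2, 2, 0, 2, 0, 0, 3, 0, 0, 0, 2, 2, 0, 2, 0, 2, 1, 3, 3, 3, 3, 1, 1],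
  [3, 1, 2, 0, 0, 2, 1, 2, 2, 0, 3, 1, 3, 0, 3, 3, 3, 1, 1, 2, 0, 0, 0, 2, 1, 3, 1, 2, 2, 2, 0, 0, 1, 1, 1, 1, 2, 2, 0, 0, 2, 1, 2, 2, 1, 2, 2, 2],
  [3, 1, 2, 0, 0, 2, 1, 2, 2, 0, 3, 1, 3, 0, 3, 3, 3, 0, 0, 0, 2, 2, 0, 2, 0, 2, 1, 3, 3, 3, 3, 1, 1, 1, 3, 3, 0, 3, 1, 1, 2, 1, 1, 2, 2, 1, 2, 2, 0],
  [1, 1, 1, 1, 2, 2, 0, 0, 2, 1, 2, 2, 1, 2, 2, 2, 2, 2, 0, 2, 1, 3, 3, 3, 1, 3, 1, 1, 1, 2, 1, 1, 3],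
  [0, 0, 0, 2, 2, 0, 2, 0, 2, 1, 3, 3, 3, 3, 1, 1, 1, 3, 3, 0, 3, 1, 1, 2, 1, 1, 2, 2, 1, 2, 2, 0, 1, 1, 2, 0, 0, 0, 2, 1, 3, 1, 2, 2, 2, 0, 0],
  [0, 3, 1, 2, 2, 1, 1, 3, 0, 2, 0, 0, 0, 2, 1, 2],
  [3, 1, 2, 0, 0, 2, 1, 2, 2, 0, 3, 1, 3, 0, 3, 3, 3, 3, 1, 2, 0, 0, 2, 1, 2, 2, 0, 3, 1, 3, 0, 3, 3, 3],
  [0, 3, 1, 3, 0, 2, 0, 0, 3, 0, 3, 3, 3, 0, 3, 1, 3, 0, 3, 1, 2, 2, 1, 1, 3, 0, 2, 0, 0, 0, 2, 1, 2],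
  [2, 2, 0, 2, 1, 3, 1, 1, 1, 3, 1, 2, 0, 3, 1, 1, 2, 2, 1, 1, 3, 1, 3, 3, 0, 2, 0, 2, 2, 1, 3, 1, 1, 0, 0, 0, 2, 2, 0, 2, 0, 2, 1, 3, 3, 3, 3, 1, 1],
  [1, 1, 1, 1, 2, 2, 0, 0, 2, 1, 2, 2, 1, 2, 2, 2, 0, 0, 2, 1, 1, 3, 0, 0, 2, 0, 3, 0, 3, 1, 2, 1, 0, 0, 0, 2, 2, 0, 2, 0, 2, 1, 3, 3, 3, 3, 1, 1],
  [0, 0, 2, 2, 1, 1, 3, 0, 2, 0, 0, 3, 3, 3, 1, 3, 3, 1, 2, 0, 0, 2, 1, 2, 2, 0, 3, 1, 3, 0, 3, 3, 3],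
  [1, 2, 1, 2, 2, 1, 3, 1, 3, 0, 3, 1, 2, 2, 0, 2, 2, 2, 0, 2, 1, 3, 1, 1, 1, 3, 1, 2, 0, 3, 1, 1, 2, 2, 1, 1, 3, 1, 3, 3, 0, 2, 0, 2, 2, 1, 3, 1, 1],
  [0, 0, 0, 2, 2, 0, 2, 0, 2, 1, 3, 3, 3, 3, 1, 1, 1, 1, 2, 0, 0, 0, 2, 1, 3, 1, 2, 2, 2, 0, 0],
  [3, 1, 2, 0, 0, 2, 1, 2, 2, 0, 3, 1, 3, 0, 3, 3, 3, 0, 0, 2, 1, 1, 3, 0, 0, 2, 0, 3, 0, 3, 1, 2, 1],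
  [],
  [3, 1, 2, 0, 0, 2, 1, 2, 2, 0, 3, 1, 3, 0, 3, 3, 3, 2, 2, 0, 2, 1, 3, 1, 1, 1, 3, 1, 2, 0, 3, 1, 1, 2, 1, 1, 2, 0, 0, 0, 2, 1, 3, 1, 2, 2, 2, 0, 0],
  [1, 3, 3, 0, 3, 1, 1, 2, 1, 1, 2, 2, 1, 2, 2, 0, 1, 1, 1, 1, 2, 2, 0, 0, 2, 1, 2, 2, 1, 2, 2, 2, 1, 1, 2, 0, 0, 0, 2, 1, 3, 1, 2, 2, 2, 0, 0],
  [2, 2, 0, 2, 1, 3, 1, 1, 1, 3, 1, 2, 0, 3, 1, 1, 2, 1, 2, 1, 2, 0, 3, 3, 3, 1, 2, 0, 3, 1, 3, 0, 3],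
  [0, 3, 1, 3, 0, 2, 0, 0, 3, 0, 3, 3, 3, 0, 3, 1, 3, 3, 1, 3, 3, 0, 2, 1, 2, 0, 2, 0, 3, 3, 0, 3, 0, 0, 0, 0, 2, 2, 0, 2, 0, 2, 1, 3, 3, 3, 3, 1, 1],
  [3, 0, 3, 1, 3, 0, 0, 0, 2, 1, 1, 1, 1, 3, 1, 1, 3, 1, 2, 0, 0, 2, 1, 2, 2, 0, 3, 1, 3, 0, 3, 3, 3],
  [0, 0, 2, 0, 0, 3, 0, 3, 3, 0, 3, 0, 3, 3, 1, 2, 0, 2, 2, 0, 2, 1, 3, 1, 1, 1, 3, 1, 2, 0, 3, 1, 1, 2],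
  [2, 1, 1, 2, 2, 0, 0, 2, 2, 0, 3, 3, 1, 2, 0, 2, 1, 0, 0, 0, 2, 2, 0, 2, 0, 2, 1, 3, 3, 3, 3, 1, 1, 1, 1, 2, 0, 0, 0, 2, 1, 3, 1, 2, 2, 2, 0, 0],
  [0, 0, 0, 2, 2, 0, 2, 0, 2, 1, 3, 3, 3, 3, 1, 1, 0, 0, 2, 0, 0, 3, 0, 3, 3, 0, 3, 0, 3, 3, 1, 2, 0, 1, 1, 1, 1, 2, 2, 0, 0, 2, 1, 2, 2, 1, 2, 2, 2],
  [0, 0, 2, 0, 0, 3, 0, 3, 3, 0, 3, 0, 3, 3, 1, 2, 0],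
  [0, 3, 3, 0, 3, 1, 2, 1, 2, 0, 0, 2, 0, 0, 0, 3, 3, 0, 0, 0, 2, 2, 0, 2, 0, 2, 1, 3, 3, 3, 3, 1, 1, 1, 1, 2, 0, 0, 0, 2, 1, 3, 1, 2, 2, 2, 0, 0],
  [2, 2, 0, 2, 1, 3, 1, 1, 1, 3, 1, 2, 0, 3, 1, 1, 2, 0, 0, 0, 2, 2, 0, 2, 0, 2, 1, 3, 3, 3, 3, 1, 1],
  [1, 2, 1, 2, 0, 3, 3, 3, 1, 2, 0, 3, 1, 3, 0, 3, 3, 1, 2, 0, 0, 2, 1, 2, 2, 0, 3, 1, 3, 0, 3, 3, 3],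
  [1, 3, 3, 0, 3, 1, 1, 2, 1, 1, 2, 2, 1, 2, 2, 0, 2, 2, 0, 2, 1, 3, 1, 1, 1, 3, 1, 2, 0, 3, 1, 1, 2],
  [0, 2, 2, 1, 1, 2, 0, 2, 0, 0, 0, 0, 3, 3, 0, 3, 0, 2, 2, 0, 2, 1, 3, 1, 1, 1, 3, 1, 2, 0, 3, 1, 1, 2],
  [2, 2, 0, 2, 1, 3, 1, 1, 1, 3, 1, 2, 0, 3, 1, 1, 2, 3, 0, 2, 0, 0, 3, 1, 1, 3, 1, 1, 1, 3, 0, 2, 1, 1, 0, 0, 0, 2, 2, 0, 2, 0, 2, 1, 3, 3, 3, 3, 1, 1],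
  [0, 0, 0, 2, 2, 0, 2, 0, 2, 1, 3, 3, 3, 3, 1, 1, 1, 1, 1, 3, 1, 1, 2, 1, 1, 2, 2, 1, 3, 3, 3, 1],
  [1, 1, 1, 1, 2, 2, 0, 0, 2, 1, 2, 2, 1, 2, 2, 2, 1, 3, 0, 2, 1, 3, 0, 3, 0, 2, 2, 2, 2, 0, 3, 3, 0, 0, 0, 0, 2, 2, 0, 2, 0, 2, 1, 3, 3, 3, 3, 1, 1],
  [1, 3, 0, 2, 1, 3, 0, 3, 0, 2, 2, 2, 2, 0, 3, 3, 0],
  [0, 0, 2, 2, 1, 1, 3, 0, 2, 0, 0, 3, 3, 3, 1, 3, 0, 0, 0, 2, 2, 0, 2, 0, 2, 1, 3, 3, 3, 3, 1, 1, 1, 1, 2, 0, 0, 0, 2, 1, 3, 1, 2, 2, 2, 0, 0],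
  [0, 3, 1, 3, 0, 2, 0, 0, 3, 0, 3, 3, 3, 0, 3, 1, 3, 1, 1, 2, 0, 0, 0, 2, 1, 3, 1, 2, 2, 2, 0, 0, 1, 1, 2, 0, 0, 0, 2, 1, 3, 1, 2, 2, 2, 0, 0],
  [0, 3, 1, 2, 2, 1, 1, 3, 0, 2, 0, 0, 0, 2, 1, 2, 3, 1, 2, 0, 0, 2, 1, 2, 2, 0, 3, 1, 3, 0, 3, 3, 3],
  [1, 1, 1, 3, 1, 1, 2, 1, 1, 2, 2, 1, 3, 3, 3, 1, 3, 1, 2, 0, 0, 2, 1, 2, 2, 0, 3, 1, 3, 0, 3, 3, 3],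
  [0, 0, 2, 0, 0, 3, 0, 3, 3, 0, 3, 0, 3, 3, 1, 2, 0, 0, 0, 0, 2, 2, 0, 2, 0, 2, 1, 3, 3, 3, 3, 1, 1, 1, 1, 2, 0, 0, 0, 2, 1, 3, 1, 2, 2, 2, 0, 0],
  [2, 2, 0, 2, 1, 3, 3, 3, 1, 3, 1, 1, 1, 2, 1, 1, 3, 3, 1, 2, 0, 0, 2, 1, 2, 2, 0, 3, 1, 3, 0, 3, 3, 3],
  [1, 2, 1, 2, 2, 1, 3, 1, 3, 0, 3, 1, 2, 2, 0, 2, 3, 1, 2, 0, 0, 2, 1, 2, 2, 0, 3, 1, 3, 0, 3, 3, 3, 0, 0, 0, 2, 2, 0, 2, 0, 2, 1, 3, 3, 3, 3, 1, 1],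
  [2, 1, 1, 2, 2, 0, 0, 2, 2, 0, 3, 3, 1, 2, 0, 2, 1, 2, 2, 0, 2, 1, 3, 1, 1, 1, 3, 1, 2, 0, 3, 1, 1, 2],
  [2, 0, 0, 3, 0, 0, 3, 3, 3, 0, 0, 2, 0, 2, 1, 1, 1, 1, 2, 0, 0, 0, 2, 1, 3, 1, 2, 2, 2, 0, 0, 0, 0, 0, 2, 2, 0, 2, 0, 2, 1, 3, 3, 3, 3, 1, 1],
  [0, 3, 1, 3, 0, 2, 0, 0, 3, 0, 3, 3, 3, 0, 3, 1, 3, 1, 3, 3, 0, 3, 1, 1, 2, 1, 1, 2, 2, 1, 2, 2, 0],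
  [1, 3, 3, 0, 3, 1, 1, 2, 1, 1, 2, 2, 1, 2, 2, 0, 1, 1, 1, 1, 2, 2, 0, 0, 2, 1, 2, 2, 1, 2, 2, 2],
  [0, 3, 1, 3, 0, 2, 0, 0, 3, 0, 3, 3, 3, 0, 3, 1, 3, 1, 1, 1, 1, 2, 2, 0, 0, 2, 1, 2, 2, 1, 2, 2, 2, 1, 1, 2, 0, 0, 0, 2, 1, 3, 1, 2, 2, 2, 0, 0],
  [0, 3, 1, 2, 2, 1, 1, 3, 0, 2, 0, 0, 0, 2, 1, 2, 0, 0, 2, 1, 1, 3, 0, 0, 2, 0, 3, 0, 3, 1, 2, 1, 0, 0, 0, 2, 2, 0, 2, 0, 2, 1, 3, 3, 3, 3, 1, 1],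
  [0, 0, 2, 2, 1, 1, 3, 0, 2, 0, 0, 3, 3, 3, 1, 3, 1, 1, 1, 1, 2, 2, 0, 0, 2, 1, 2, 2, 1, 2, 2, 2],
  [1, 3, 3, 1, 1, 3, 1, 2, 2, 1, 2, 2, 2, 1, 3, 1, 3, 2, 2, 0, 2, 1, 3, 1, 1, 1, 3, 1, 2, 0, 3, 1, 1, 2, 1, 1, 2, 0, 0, 0, 2, 1, 3, 1, 2, 2, 2, 0, 0],
  [0, 0, 2, 1, 1, 3, 0, 0, 2, 0, 3, 0, 3, 1, 2, 1, 1, 1, 1, 1, 2, 2, 0, 0, 2, 1, 2, 2, 1, 2, 2, 2],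
  [1, 1, 1, 1, 2, 2, 0, 0, 2, 1, 2, 2, 1, 2, 2, 2, 0, 0, 0, 2, 2, 0, 2, 0, 2, 1, 3, 3, 3, 3, 1, 1],
  [2, 2, 0, 2, 1, 3, 3, 3, 1, 3, 1, 1, 1, 2, 1, 1, 3, 1, 1, 1, 1, 2, 2, 0, 0, 2, 1, 2, 2, 1, 2, 2, 2],
  [3, 0, 2, 0, 0, 3, 1, 1, 3, 1, 1, 1, 3, 0, 2, 1, 1, 0, 0, 0, 2, 2, 0, 2, 0, 2, 1, 3, 3, 3, 3, 1, 1],
  [1, 1, 2, 0, 0, 0, 2, 1, 3, 1, 2, 2, 2, 0, 0, 1, 1, 2, 0, 0, 0, 2, 1, 3, 1, 2, 2, 2, 0, 0, 0, 0, 0, 2, 2, 0, 2, 0, 2, 1, 3, 3, 3, 3, 1, 1],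
  [3, 3, 1, 3, 0, 3, 3, 1, 1, 1, 1, 2, 0, 3, 3, 1, 1, 1, 1, 1, 1, 2, 2, 0, 0, 2, 1, 2, 2, 1, 2, 2, 2],
  [1, 1, 2, 2, 1, 1, 1, 3, 0, 3, 0, 2, 2, 2, 1, 1, 1, 3, 0, 3, 1, 3, 0, 0, 0, 2, 1, 1, 1, 1, 3, 1, 1, 0, 0, 0, 2, 2, 0, 2, 0, 2, 1, 3, 3, 3, 3, 1, 1],
  [1, 3, 0, 2, 1, 3, 0, 3, 0, 2, 2, 2, 2, 0, 3, 3, 0, 2, 1, 1, 3, 1, 3, 3, 0, 2, 0, 2, 2, 1, 3, 1, 1, 0, 0, 0, 2, 2, 0, 2, 0, 2, 1, 3, 3, 3, 3, 1, 1],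
  [0, 0, 2, 2, 1, 3, 0, 0, 0, 0, 2, 2, 1, 2, 0, 2, 2, 2, 2, 0, 2, 1, 3, 1, 1, 1, 3, 1, 2, 0, 3, 1, 1, 2, 1, 1, 2, 0, 0, 0, 2, 1, 3, 1, 2, 2, 2, 0, 0],
  [0, 0, 0, 2, 2, 0, 2, 0, 2, 1, 3, 3, 3, 3, 1, 1],
  [1, 1, 2, 0, 0, 3, 0, 2, 1, 2, 0, 3, 0, 0, 3, 1, 1, 0, 0, 2, 2, 1, 1, 3, 0, 2, 0, 0, 3, 3, 3, 1, 3, 0, 0, 0, 2, 2, 0, 2, 0, 2, 1, 3, 3, 3, 3, 1, 1],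
  [2, 1, 1, 3, 1, 3, 3, 0, 2, 0, 2, 2, 1, 3, 1, 1],
  [2, 2, 0, 2, 1, 3, 1, 1, 1, 3, 1, 2, 0, 3, 1, 1, 2, 3, 1, 2, 0, 0, 2, 1, 2, 2, 0, 3, 1, 3, 0, 3, 3, 3],
  [0, 0, 2, 0, 0, 3, 0, 3, 3, 0, 3, 0, 3, 3, 1, 2, 0, 3, 1, 2, 0, 0, 2, 1, 2, 2, 0, 3, 1, 3, 0, 3, 3, 3, 0, 0, 0, 2, 2, 0, 2, 0, 2, 1, 3, 3, 3, 3, 1, 1],
  [3, 1, 3, 0, 0, 2, 0, 2, 1, 2, 1, 2, 0, 0, 0, 3, 0, 2, 2, 0, 2, 1, 3, 1, 1, 1, 3, 1, 2, 0, 3, 1, 1, 2],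
  [1, 1, 2, 0, 0, 0, 2, 1, 3, 1, 2, 2, 2, 0, 0, 2, 2, 0, 2, 1, 3, 1, 1, 1, 3, 1, 2, 0, 3, 1, 1, 2],
  [1, 2, 2, 2, 2, 0, 0, 0, 2, 2, 0, 3, 0, 3, 0, 0, 0, 0, 0, 2, 2, 0, 2, 0, 2, 1, 3, 3, 3, 3, 1, 1, 1, 1, 2, 0, 0, 0, 2, 1, 3, 1, 2, 2, 2, 0, 0],
  [1, 1, 1, 1, 2, 2, 0, 0, 2, 1, 2, 2, 1, 2, 2, 2, 1, 1, 1, 3, 1, 1, 2, 1, 1, 2, 2, 1, 3, 3, 3, 1],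
  [3, 1, 2, 0, 0, 2, 1, 2, 2, 0, 3, 1, 3, 0, 3, 3, 3, 2, 1, 1, 3, 1, 3, 3, 0, 2, 0, 2, 2, 1, 3, 1, 1],
  [2, 2, 0, 2, 1, 3, 1, 1, 1, 3, 1, 2, 0, 3, 1, 1, 2, 0, 0, 2, 1, 1, 3, 0, 0, 2, 0, 3, 0, 3, 1, 2, 1],
  [0, 0, 2, 2, 1, 1, 3, 0, 2, 0, 0, 3, 3, 3, 1, 3, 2, 2, 0, 2, 1, 3, 1, 1, 1, 3, 1, 2, 0, 3, 1, 1, 2, 1, 1, 2, 0, 0, 0, 2, 1, 3, 1, 2, 2, 2, 0, 0],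
  [3, 1, 3, 3, 0, 2, 1, 2, 0, 2, 0, 3, 3, 0, 3, 0, 1, 1, 2, 0, 0, 0, 2, 1, 3, 1, 2, 2, 2, 0, 0, 0, 0, 0, 2, 2, 0, 2, 0, 2, 1, 3, 3, 3, 3, 1, 1],
  [1, 2, 1, 2, 2, 1, 3, 1, 3, 0, 3, 1, 2, 2, 0, 2, 0, 0, 0, 2, 2, 0, 2, 0, 2, 1, 3, 3, 3, 3, 1, 1],
  [0, 0, 2, 0, 3, 3, 1, 3, 1, 2, 2, 0, 2, 0, 0, 3, 1, 1, 1, 1, 2, 2, 0, 0, 2, 1, 2, 2, 1, 2, 2, 2],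
  [1, 2, 1, 2, 0, 3, 3, 3, 1, 2, 0, 3, 1, 3, 0, 3, 2, 1, 1, 3, 1, 3, 3, 0, 2, 0, 2, 2, 1, 3, 1, 1, 0, 0, 0, 2, 2, 0, 2, 0, 2, 1, 3, 3, 3, 3, 1, 1],
  [2, 2, 0, 2, 1, 3, 1, 1, 1, 3, 1, 2, 0, 3, 1, 1, 2, 0, 3, 0, 0, 0, 3, 0, 3, 1, 1, 2, 1, 1, 2, 0, 3, 3],
  [1, 3, 0, 2, 1, 3, 0, 3, 0, 2, 2, 2, 2, 0, 3, 3, 0, 0, 0, 0, 2, 2, 0, 2, 0, 2, 1, 3, 3, 3, 3, 1, 1],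
  [3, 1, 3, 3, 0, 2, 1, 2, 0, 2, 0, 3, 3, 0, 3, 0, 1, 3, 3, 0, 3, 1, 1, 2, 1, 1, 2, 2, 1, 2, 2, 0, 0, 0, 0, 2, 2, 0, 2, 0, 2, 1, 3, 3, 3, 3, 1, 1],
  [0, 0, 2, 0, 3, 3, 1, 3, 1, 2, 2, 0, 2, 0, 0, 3, 0, 3, 1, 3, 0, 2, 0, 0, 3, 0, 3, 3, 3, 0, 3, 1, 3],
  [3, 0, 3, 1, 3, 0, 0, 0, 2, 1, 1, 1, 1, 3, 1, 1],
  [0, 3, 1, 3, 0, 2, 0, 0, 3, 0, 3, 3, 3, 0, 3, 1, 3, 1, 2, 1, 2, 0, 3, 3, 3, 1, 2, 0, 3, 1, 3, 0, 3],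
  [0, 0, 2, 0, 3, 3, 1, 3, 1, 2, 2, 0, 2, 0, 0, 3, 2, 2, 0, 2, 1, 3, 1, 1, 1, 3, 1, 2, 0, 3, 1, 1, 2],
  [1, 1, 2, 2, 1, 1, 1, 3, 0, 3, 0, 2, 2, 2, 1, 1, 1, 0, 3, 1, 3, 0, 2, 0, 0, 3, 0, 3, 3, 3, 0, 3, 1, 3, 1, 1, 2, 0, 0, 0, 2, 1, 3, 1, 2, 2, 2, 0, 0],
  [2, 2, 0, 2, 1, 3, 1, 1, 1, 3, 1, 2, 0, 3, 1, 1, 2, 0, 0, 2, 2, 1, 1, 3, 0, 2, 0, 0, 3, 3, 3, 1, 3, 0, 0, 0, 2, 2, 0, 2, 0, 2, 1, 3, 3, 3, 3, 1, 1],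
  [2, 2, 0, 2, 1, 3, 3, 3, 1, 3, 1, 1, 1, 2, 1, 1, 3, 2, 2, 0, 2, 1, 3, 1, 1, 1, 3, 1, 2, 0, 3, 1, 1, 2, 0, 0, 0, 2, 2, 0, 2, 0, 2, 1, 3, 3, 3, 3, 1, 1],
  [3, 1, 2, 0, 0, 2, 1, 2, 2, 0, 3, 1, 3, 0, 3, 3, 3, 0, 0, 2, 2, 1, 3, 0, 0, 0, 0, 2, 2, 1, 2, 0, 2, 2, 1, 1, 1, 1, 2, 2, 0, 0, 2, 1, 2, 2, 1, 2, 2, 2],
  [1, 1, 1, 1, 2, 2, 0, 0, 2, 1, 2, 2, 1, 2, 2, 2, 0, 0, 2, 0, 0, 3, 0, 3, 3, 0, 3, 0, 3, 3, 1, 2, 0],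
  [0, 0, 0, 2, 2, 0, 2, 0, 2, 1, 3, 3, 3, 3, 1, 1, 0, 0, 2, 0, 3, 3, 1, 3, 1, 2, 2, 0, 2, 0, 0, 3, 0, 0, 0, 2, 2, 0, 2, 0, 2, 1, 3, 3, 3, 3, 1, 1],
  [1, 2, 1, 2, 0, 3, 3, 3, 1, 2, 0, 3, 1, 3, 0, 3, 1, 1, 1, 1, 2, 2, 0, 0, 2, 1, 2, 2, 1, 2, 2, 2],
  [1, 1, 2, 2, 1, 1, 1, 3, 0, 3, 0, 2, 2, 2, 1, 1, 1, 1, 1, 1, 1, 2, 2, 0, 0, 2, 1, 2, 2, 1, 2, 2, 2],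
  [0, 3, 1, 3, 0, 2, 0, 0, 3, 0, 3, 3, 3, 0, 3, 1, 3, 1, 2, 2, 2, 2, 0, 0, 0, 2, 2, 0, 3, 0, 3, 0, 0],
  [0, 0, 2, 0, 0, 3, 0, 3, 3, 0, 3, 0, 3, 3, 1, 2, 0, 2, 1, 1, 3, 1, 3, 3, 0, 2, 0, 2, 2, 1, 3, 1, 1, 0, 0, 0, 2, 2, 0, 2, 0, 2, 1, 3, 3, 3, 3, 1, 1],
  [1, 2, 1, 2, 0, 3, 3, 3, 1, 2, 0, 3, 1, 3, 0, 3, 0, 3, 1, 3, 0, 2, 0, 0, 3, 0, 3, 3, 3, 0, 3, 1, 3],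
  [1, 1, 2, 0, 0, 0, 2, 1, 3, 1, 2, 2, 2, 0, 0, 2, 2, 0, 2, 1, 3, 1, 1, 1, 3, 1, 2, 0, 3, 1, 1, 2, 1, 1, 2, 0, 0, 0, 2, 1, 3, 1, 2, 2, 2, 0, 0],
  [2, 2, 0, 2, 1, 3, 3, 3, 1, 3, 1, 1, 1, 2, 1, 1, 3, 3, 1, 2, 0, 0, 2, 1, 2, 2, 0, 3, 1, 3, 0, 3, 3, 3, 1, 1, 2, 0, 0, 0, 2, 1, 3, 1, 2, 2, 2, 0, 0],
  [1, 1, 2, 2, 1, 1, 1, 3, 0, 3, 0, 2, 2, 2, 1, 1, 1, 0, 3, 1, 3, 0, 2, 0, 0, 3, 0, 3, 3, 3, 0, 3, 1, 3],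
  [2, 0, 0, 3, 0, 0, 3, 3, 3, 0, 0, 2, 0, 2, 1, 1, 1, 2, 1, 2, 2, 1, 3, 1, 3, 0, 3, 1, 2, 2, 0, 2, 0, 0, 0, 2, 2, 0, 2, 0, 2, 1, 3, 3, 3, 3, 1, 1],
  [0, 3, 3, 0, 3, 1, 2, 1, 2, 0, 0, 2, 0, 0, 0, 3, 3],
  [1, 1, 2, 0, 0, 3, 0, 2, 1, 2, 0, 3, 0, 0, 3, 1, 1, 0, 0, 0, 2, 2, 0, 2, 0, 2, 1, 3, 3, 3, 3, 1, 1, 1, 1, 2, 0, 0, 0, 2, 1, 3, 1, 2, 2, 2, 0, 0],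
  [0, 3, 1, 3, 0, 2, 0, 0, 3, 0, 3, 3, 3, 0, 3, 1, 3, 0, 3, 0, 0, 0, 3, 0, 3, 1, 1, 2, 1, 1, 2, 0, 3, 3],
  [0, 0, 2, 0, 3, 3, 1, 3, 1, 2, 2, 0, 2, 0, 0, 3, 3, 1, 2, 0, 0, 2, 1, 2, 2, 0, 3, 1, 3, 0, 3, 3, 3, 0, 0, 0, 2, 2, 0, 2, 0, 2, 1, 3, 3, 3, 3, 1, 1],
  [2, 1, 1, 3, 1, 3, 3, 0, 2, 0, 2, 2, 1, 3, 1, 1, 2, 2, 0, 2, 1, 3, 1, 1, 1, 3, 1, 2, 0, 3, 1, 1, 2],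
  [3, 0, 3, 1, 3, 0, 0, 0, 2, 1, 1, 1, 1, 3, 1, 1, 1, 1, 1, 1, 2, 2, 0, 0, 2, 1, 2, 2, 1, 2, 2, 2, 1, 1, 2, 0, 0, 0, 2, 1, 3, 1, 2, 2, 2, 0, 0],
  [0, 0, 0, 2, 2, 0, 2, 0, 2, 1, 3, 3, 3, 3, 1, 1, 2, 1, 1, 2, 2, 0, 0, 2, 2, 0, 3, 3, 1, 2, 0, 2, 1, 0, 0, 0, 2, 2, 0, 2, 0, 2, 1, 3, 3, 3, 3, 1, 1],
  [1, 1, 2, 0, 0, 0, 2, 1, 3, 1, 2, 2, 2, 0, 0, 2, 2, 0, 2, 1, 3, 1, 1, 1, 3, 1, 2, 0, 3, 1, 1, 2, 0, 0, 2, 1, 1, 3, 0, 0, 2, 0, 3, 0, 3, 1, 2, 1],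
  [1, 2, 0, 3, 1, 1, 1, 3, 1, 3, 1, 1, 1, 1, 2, 1, 1, 3, 1, 2, 0, 0, 2, 1, 2, 2, 0, 3, 1, 3, 0, 3, 3, 3],
  [2, 1, 1, 3, 1, 3, 3, 0, 2, 0, 2, 2, 1, 3, 1, 1, 1, 1, 2, 0, 0, 0, 2, 1, 3, 1, 2, 2, 2, 0, 0],
  [0, 2, 2, 0, 3, 3, 1, 1, 3, 3, 3, 0, 2, 1, 2, 0, 0, 1, 1, 1, 1, 2, 2, 0, 0, 2, 1, 2, 2, 1, 2, 2, 2, 1, 1, 2, 0, 0, 0, 2, 1, 3, 1, 2, 2, 2, 0, 0],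
  [1, 2, 1, 2, 0, 3, 3, 3, 1, 2, 0, 3, 1, 3, 0, 3, 0, 0, 0, 2, 2, 0, 2, 0, 2, 1, 3, 3, 3, 3, 1, 1, 1, 1, 2, 0, 0, 0, 2, 1, 3, 1, 2, 2, 2, 0, 0],
  [3, 1, 3, 3, 0, 2, 1, 2, 0, 2, 0, 3, 3, 0, 3, 0, 3, 1, 2, 0, 0, 2, 1, 2, 2, 0, 3, 1, 3, 0, 3, 3, 3],
  [1, 1, 2, 0, 0, 0, 2, 1, 3, 1, 2, 2, 2, 0, 0, 3, 1, 2, 0, 0, 2, 1, 2, 2, 0, 3, 1, 3, 0, 3, 3, 3],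
  [0, 0, 0, 2, 2, 0, 2, 0, 2, 1, 3, 3, 3, 3, 1, 1, 3, 1, 2, 0, 0, 2, 1, 2, 2, 0, 3, 1, 3, 0, 3, 3, 3, 0, 0, 0, 2, 2, 0, 2, 0, 2, 1, 3, 3, 3, 3, 1, 1],
  [0, 0, 0, 2, 2, 0, 2, 0, 2, 1, 3, 3, 3, 3, 1, 1, 1, 1, 2, 0, 0, 0, 2, 1, 3, 1, 2, 2, 2, 0, 0, 1, 1, 2, 0, 0, 0, 2, 1, 3, 1, 2, 2, 2, 0, 0],
  [1, 2, 1, 2, 2, 1, 3, 1, 3, 0, 3, 1, 2, 2, 0, 2, 3, 1, 2, 0, 0, 2, 1, 2, 2, 0, 3, 1, 3, 0, 3, 3, 3],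
  [1, 3, 3, 0, 3, 1, 1, 2, 1, 1, 2, 2, 1, 2, 2, 0, 3, 1, 2, 0, 0, 2, 1, 2, 2, 0, 3, 1, 3, 0, 3, 3, 3],
  [1, 2, 2, 2, 2, 0, 0, 0, 2, 2, 0, 3, 0, 3, 0, 0],
  [2, 2, 0, 2, 1, 3, 1, 1, 1, 3, 1, 2, 0, 3, 1, 1, 2, 2, 2, 0, 2, 1, 3, 1, 1, 1, 3, 1, 2, 0, 3, 1, 1, 2, 1, 1, 2, 0, 0, 0, 2, 1, 3, 1, 2, 2, 2, 0, 0],
  [2, 1, 1, 3, 1, 3, 3, 0, 2, 0, 2, 2, 1, 3, 1, 1, 0, 0, 0, 2, 2, 0, 2, 0, 2, 1, 3, 3, 3, 3, 1, 1, 1, 1, 2, 0, 0, 0, 2, 1, 3, 1, 2, 2, 2, 0, 0],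
  [3, 1, 2, 0, 0, 2, 1, 2, 2, 0, 3, 1, 3, 0, 3, 3, 3, 1, 2, 1, 2, 0, 3, 3, 3, 1, 2, 0, 3, 1, 3, 0, 3],
  [1, 2, 1, 2, 2, 1, 3, 1, 3, 0, 3, 1, 2, 2, 0, 2, 1, 1, 1, 1, 2, 2, 0, 0, 2, 1, 2, 2, 1, 2, 2, 2, 1, 1, 2, 0, 0, 0, 2, 1, 3, 1, 2, 2, 2, 0, 0],
  [0, 0, 0, 2, 2, 0, 2, 0, 2, 1, 3, 3, 3, 3, 1, 1, 0, 2, 2, 0, 3, 3, 1, 1, 3, 3, 3, 0, 2, 1, 2, 0, 0, 1, 1, 1, 1, 2, 2, 0, 0, 2, 1, 2, 2, 1, 2, 2, 2],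
  [1, 1, 2, 2, 1, 1, 1, 3, 0, 3, 0, 2, 2, 2, 1, 1, 1, 3, 1, 2, 0, 0, 2, 1, 2, 2, 0, 3, 1, 3, 0, 3, 3, 3, 0, 0, 0, 2, 2, 0, 2, 0, 2, 1, 3, 3, 3, 3, 1, 1],
  [1, 1, 2, 0, 0, 3, 0, 2, 1, 2, 0, 3, 0, 0, 3, 1, 1, 2, 2, 0, 2, 1, 3, 1, 1, 1, 3, 1, 2, 0, 3, 1, 1, 2],
  [0, 2, 2, 0, 3, 3, 1, 1, 3, 3, 3, 0, 2, 1, 2, 0, 0, 3, 1, 2, 0, 0, 2, 1, 2, 2, 0, 3, 1, 3, 0, 3, 3, 3],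
  [2, 2, 0, 2, 1, 3, 1, 1, 1, 3, 1, 2, 0, 3, 1, 1, 2, 2, 2, 0, 2, 1, 3, 1, 1, 1, 3, 1, 2, 0, 3, 1, 1, 2],
  [3, 0, 3, 1, 3, 0, 0, 0, 2, 1, 1, 1, 1, 3, 1, 1, 2, 2, 0, 2, 1, 3, 1, 1, 1, 3, 1, 2, 0, 3, 1, 1, 2, 1, 1, 2, 0, 0, 0, 2, 1, 3, 1, 2, 2, 2, 0, 0],
  [2, 2, 0, 2, 1, 3, 1, 1, 1, 3, 1, 2, 0, 3, 1, 1, 2, 2, 2, 0, 2, 1, 3, 3, 3, 1, 3, 1, 1, 1, 2, 1, 1, 3],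
  [1, 1, 1, 3, 1, 1, 2, 1, 1, 2, 2, 1, 3, 3, 3, 1, 1, 1, 1, 1, 2, 2, 0, 0, 2, 1, 2, 2, 1, 2, 2, 2],
  [0, 0, 2, 0, 0, 3, 0, 3, 3, 0, 3, 0, 3, 3, 1, 2, 0, 1, 1, 1, 1, 2, 2, 0, 0, 2, 1, 2, 2, 1, 2, 2, 2],
  [1, 2, 0, 3, 1, 1, 1, 3, 1, 3, 1, 1, 1, 1, 2, 1, 1, 3, 1, 2, 0, 0, 2, 1, 2, 2, 0, 3, 1, 3, 0, 3, 3, 3, 1, 1, 2, 0, 0, 0, 2, 1, 3, 1, 2, 2, 2, 0, 0],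
  [0, 0, 0, 2, 2, 0, 2, 0, 2, 1, 3, 3, 3, 3, 1, 1, 1, 3, 0, 2, 1, 3, 0, 3, 0, 2, 2, 2, 2, 0, 3, 3, 0],
  [0, 2, 2, 1, 1, 2, 0, 2, 0, 0, 0, 0, 3, 3, 0, 3, 0, 0, 0, 0, 2, 2, 0, 2, 0, 2, 1, 3, 3, 3, 3, 1, 1],
  [1, 1, 1, 3, 1, 1, 2, 1, 1, 2, 2, 1, 3, 3, 3, 1, 0, 3, 1, 3, 0, 2, 0, 0, 3, 0, 3, 3, 3, 0, 3, 1, 3],
  [0, 3, 0, 0, 0, 3, 0, 3, 1, 1, 2, 1, 1, 2, 0, 3, 3],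
  [2, 1, 1, 3, 1, 3, 3, 0, 2, 0, 2, 2, 1, 3, 1, 1, 0, 0, 0, 2, 2, 0, 2, 0, 2, 1, 3, 3, 3, 3, 1, 1, 1, 1, 1, 3, 1, 1, 2, 1, 1, 2, 2, 1, 3, 3, 3, 1],
  [0, 0, 2, 0, 3, 3, 1, 3, 1, 2, 2, 0, 2, 0, 0, 3, 3, 1, 2, 0, 0, 2, 1, 2, 2, 0, 3, 1, 3, 0, 3, 3, 3],
  [2, 2, 0, 2, 1, 3, 1, 1, 1, 3, 1, 2, 0, 3, 1, 1, 2, 2, 1, 1, 3, 1, 3, 3, 0, 2, 0, 2, 2, 1, 3, 1, 1, 1, 1, 2, 0, 0, 0, 2, 1, 3, 1, 2, 2, 2, 0, 0],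
  [1, 2, 1, 2, 0, 3, 3, 3, 1, 2, 0, 3, 1, 3, 0, 3, 0, 3, 1, 3, 0, 2, 0, 0, 3, 0, 3, 3, 3, 0, 3, 1, 3, 1, 1, 2, 0, 0, 0, 2, 1, 3, 1, 2, 2, 2, 0, 0],
  [0, 0, 0, 2, 2, 0, 2, 0, 2, 1, 3, 3, 3, 3, 1, 1, 0, 3, 0, 0, 0, 3, 0, 3, 1, 1, 2, 1, 1, 2, 0, 3, 3],
  [3, 1, 3, 0, 0, 2, 0, 2, 1, 2, 1, 2, 0, 0, 0, 3, 0, 3, 1, 2, 0, 0, 2, 1, 2, 2, 0, 3, 1, 3, 0, 3, 3, 3],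
  [1, 1, 1, 1, 2, 2, 0, 0, 2, 1, 2, 2, 1, 2, 2, 2, 2, 1, 1, 3, 1, 3, 3, 0, 2, 0, 2, 2, 1, 3, 1, 1, 1, 1, 2, 0, 0, 0, 2, 1, 3, 1, 2, 2, 2, 0, 0],
  [0, 3, 1, 3, 0, 2, 0, 0, 3, 0, 3, 3, 3, 0, 3, 1, 3, 2, 2, 0, 2, 1, 3, 3, 3, 1, 3, 1, 1, 1, 2, 1, 1, 3, 1, 1, 1, 1, 2, 2, 0, 0, 2, 1, 2, 2, 1, 2, 2, 2],
  [1, 1, 2, 0, 0, 0, 2, 1, 3, 1, 2, 2, 2, 0, 0, 1, 1, 2, 0, 0, 0, 2, 1, 3, 1, 2, 2, 2, 0, 0],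
  [3, 3, 1, 3, 0, 3, 3, 1, 1, 1, 1, 2, 0, 3, 3, 1, 1, 3, 1, 2, 0, 0, 2, 1, 2, 2, 0, 3, 1, 3, 0, 3, 3, 3],
  [0, 0, 2, 2, 1, 3, 0, 0, 0, 0, 2, 2, 1, 2, 0, 2, 2, 3, 1, 2, 0, 0, 2, 1, 2, 2, 0, 3, 1, 3, 0, 3, 3, 3],
  [0, 3, 0, 0, 0, 3, 0, 3, 1, 1, 2, 1, 1, 2, 0, 3, 3, 1, 1, 1, 1, 2, 2, 0, 0, 2, 1, 2, 2, 1, 2, 2, 2, 1, 1, 2, 0, 0, 0, 2, 1, 3, 1, 2, 2, 2, 0, 0],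
  [0, 0, 2, 0, 0, 3, 0, 3, 3, 0, 3, 0, 3, 3, 1, 2, 0, 3, 1, 2, 0, 0, 2, 1, 2, 2, 0, 3, 1, 3, 0, 3, 3, 3],
  [3, 1, 2, 0, 0, 2, 1, 2, 2, 0, 3, 1, 3, 0, 3, 3, 3, 0, 0, 0, 2, 2, 0, 2, 0, 2, 1, 3, 3, 3, 3, 1, 1],
  [0, 3, 1, 3, 0, 2, 0, 0, 3, 0, 3, 3, 3, 0, 3, 1, 3, 3, 1, 3, 3, 0, 2, 1, 2, 0, 2, 0, 3, 3, 0, 3, 0, 1, 1, 1, 1, 2, 2, 0, 0, 2, 1, 2, 2, 1, 2, 2, 2],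
  [0, 0, 0, 2, 2, 0, 2, 0, 2, 1, 3, 3, 3, 3, 1, 1, 2, 1, 1, 3, 1, 3, 3, 0, 2, 0, 2, 2, 1, 3, 1, 1, 1, 1, 2, 0, 0, 0, 2, 1, 3, 1, 2, 2, 2, 0, 0],
  [2, 2, 0, 2, 1, 3, 3, 3, 1, 3, 1, 1, 1, 2, 1, 1, 3, 0, 0, 0, 2, 2, 0, 2, 0, 2, 1, 3, 3, 3, 3, 1, 1, 1, 1, 2, 0, 0, 0, 2, 1, 3, 1, 2, 2, 2, 0, 0],
  [1, 3, 3, 0, 3, 1, 1, 2, 1, 1, 2, 2, 1, 2, 2, 0, 1, 1, 2, 0, 0, 0, 2, 1, 3, 1, 2, 2, 2, 0, 0],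
  [1, 2, 1, 2, 0, 3, 3, 3, 1, 2, 0, 3, 1, 3, 0, 3, 1, 1, 1, 1, 2, 2, 0, 0, 2, 1, 2, 2, 1, 2, 2, 2, 1, 1, 2, 0, 0, 0, 2, 1, 3, 1, 2, 2, 2, 0, 0],
  [0, 3, 1, 3, 0, 2, 0, 0, 3, 0, 3, 3, 3, 0, 3, 1, 3, 0, 0, 2, 0, 0, 3, 0, 3, 3, 0, 3, 0, 3, 3, 1, 2, 0],
  [1, 2, 2, 2, 2, 0, 0, 0, 2, 2, 0, 3, 0, 3, 0, 0, 3, 1, 2, 0, 0, 2, 1, 2, 2, 0, 3, 1, 3, 0, 3, 3, 3],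
  [1, 1, 1, 1, 2, 2, 0, 0, 2, 1, 2, 2, 1, 2, 2, 2, 1, 2, 1, 2, 0, 3, 3, 3, 1, 2, 0, 3, 1, 3, 0, 3],
  [3, 1, 2, 0, 0, 2, 1, 2, 2, 0, 3, 1, 3, 0, 3, 3, 3, 2, 2, 0, 2, 1, 3, 1, 1, 1, 3, 1, 2, 0, 3, 1, 1, 2, 0, 0, 0, 2, 2, 0, 2, 0, 2, 1, 3, 3, 3, 3, 1, 1],
  [2, 0, 0, 3, 0, 0, 3, 3, 3, 0, 0, 2, 0, 2, 1, 1, 3, 1, 2, 0, 0, 2, 1, 2, 2, 0, 3, 1, 3, 0, 3, 3, 3, 0, 0, 0, 2, 2, 0, 2, 0, 2, 1, 3, 3, 3, 3, 1, 1],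
  [0, 3, 3, 0, 3, 1, 2, 1, 2, 0, 0, 2, 0, 0, 0, 3, 3, 2, 2, 0, 2, 1, 3, 1, 1, 1, 3, 1, 2, 0, 3, 1, 1, 2],
  [2, 1, 1, 3, 1, 3, 3, 0, 2, 0, 2, 2, 1, 3, 1, 1, 3, 1, 2, 0, 0, 2, 1, 2, 2, 0, 3, 1, 3, 0, 3, 3, 3],
  [3, 1, 2, 0, 0, 2, 1, 2, 2, 0, 3, 1, 3, 0, 3, 3, 3, 3, 0, 3, 1, 3, 0, 0, 0, 2, 1, 1, 1, 1, 3, 1, 1],
  [1, 1, 2, 2, 1, 1, 1, 3, 0, 3, 0, 2, 2, 2, 1, 1, 1, 0, 0, 0, 2, 2, 0, 2, 0, 2, 1, 3, 3, 3, 3, 1, 1],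
  [0, 0, 2, 2, 1, 1, 3, 0, 2, 0, 0, 3, 3, 3, 1, 3, 0, 0, 2, 2, 1, 1, 3, 0, 2, 0, 0, 3, 3, 3, 1, 3, 0, 0, 0, 2, 2, 0, 2, 0, 2, 1, 3, 3, 3, 3, 1, 1],
  [1, 1, 1, 3, 1, 1, 2, 1, 1, 2, 2, 1, 3, 3, 3, 1, 1, 3, 3, 0, 3, 1, 1, 2, 1, 1, 2, 2, 1, 2, 2, 0, 0, 0, 0, 2, 2, 0, 2, 0, 2, 1, 3, 3, 3, 3, 1, 1],
  [0, 2, 2, 0, 3, 3, 1, 1, 3, 3, 3, 0, 2, 1, 2, 0, 0, 1, 1, 1, 1, 2, 2, 0, 0, 2, 1, 2, 2, 1, 2, 2, 2],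
  [1, 2, 1, 2, 2, 1, 3, 1, 3, 0, 3, 1, 2, 2, 0, 2, 1, 1, 2, 0, 0, 0, 2, 1, 3, 1, 2, 2, 2, 0, 0, 0, 0, 0, 2, 2, 0, 2, 0, 2, 1, 3, 3, 3, 3, 1, 1],
  [0, 0, 0, 2, 2, 0, 2, 0, 2, 1, 3, 3, 3, 3, 1, 1, 0, 3, 3, 0, 3, 1, 2, 1, 2, 0, 0, 2, 0, 0, 0, 3, 3],
  [0, 0, 2, 2, 1, 3, 0, 0, 0, 0, 2, 2, 1, 2, 0, 2, 2, 2, 1, 1, 3, 1, 3, 3, 0, 2, 0, 2, 2, 1, 3, 1, 1, 0, 0, 0, 2, 2, 0, 2, 0, 2, 1, 3, 3, 3, 3, 1, 1],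
  [3, 1, 3, 3, 0, 2, 1, 2, 0, 2, 0, 3, 3, 0, 3, 0, 0, 0, 0, 2, 2, 0, 2, 0, 2, 1, 3, 3, 3, 3, 1, 1],
  [1, 3, 3, 0, 3, 1, 1, 2, 1, 1, 2, 2, 1, 2, 2, 0],
  [2, 2, 0, 2, 1, 3, 1, 1, 1, 3, 1, 2, 0, 3, 1, 1, 2, 1, 1, 1, 1, 2, 2, 0, 0, 2, 1, 2, 2, 1, 2, 2, 2],
  [0, 3, 3, 0, 3, 1, 2, 1, 2, 0, 0, 2, 0, 0, 0, 3, 3, 3, 1, 2, 0, 0, 2, 1, 2, 2, 0, 3, 1, 3, 0, 3, 3, 3],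
  [1, 1, 1, 1, 2, 2, 0, 0, 2, 1, 2, 2, 1, 2, 2, 2, 1, 1, 2, 0, 0, 0, 2, 1, 3, 1, 2, 2, 2, 0, 0],
  [3, 1, 2, 0, 0, 2, 1, 2, 2, 0, 3, 1, 3, 0, 3, 3, 3, 2, 1, 1, 3, 1, 3, 3, 0, 2, 0, 2, 2, 1, 3, 1, 1, 0, 0, 0, 2, 2, 0, 2, 0, 2, 1, 3, 3, 3, 3, 1, 1],
  [0, 3, 1, 3, 0, 2, 0, 0, 3, 0, 3, 3, 3, 0, 3, 1, 3, 3, 3, 1, 3, 0, 3, 3, 1, 1, 1, 1, 2, 0, 3, 3, 1, 1, 0, 0, 0, 2, 2, 0, 2, 0, 2, 1, 3, 3, 3, 3, 1, 1],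
  [2, 2, 0, 2, 1, 3, 1, 1, 1, 3, 1, 2, 0, 3, 1, 1, 2, 0, 3, 1, 3, 0, 2, 0, 0, 3, 0, 3, 3, 3, 0, 3, 1, 3],
  [0, 3, 0, 0, 0, 3, 0, 3, 1, 1, 2, 1, 1, 2, 0, 3, 3, 3, 1, 2, 0, 0, 2, 1, 2, 2, 0, 3, 1, 3, 0, 3, 3, 3],
  [3, 1, 2, 0, 0, 2, 1, 2, 2, 0, 3, 1, 3, 0, 3, 3, 3, 3, 0, 3, 1, 3, 0, 0, 0, 2, 1, 1, 1, 1, 3, 1, 1, 1, 1, 1, 1, 2, 2, 0, 0, 2, 1, 2, 2, 1, 2, 2, 2],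
  [2, 2, 0, 2, 1, 3, 3, 3, 1, 3, 1, 1, 1, 2, 1, 1, 3],
  [0, 3, 1, 3, 0, 2, 0, 0, 3, 0, 3, 3, 3, 0, 3, 1, 3, 1, 1, 1, 3, 1, 1, 2, 1, 1, 2, 2, 1, 3, 3, 3, 1],
  [0, 3, 1, 3, 0, 2, 0, 0, 3, 0, 3, 3, 3, 0, 3, 1, 3, 3, 1, 2, 0, 0, 2, 1, 2, 2, 0, 3, 1, 3, 0, 3, 3, 3, 1, 1, 1, 1, 2, 2, 0, 0, 2, 1, 2, 2, 1, 2, 2, 2],
  [0, 0, 0, 2, 2, 0, 2, 0, 2, 1, 3, 3, 3, 3, 1, 1, 2, 2, 0, 2, 1, 3, 1, 1, 1, 3, 1, 2, 0, 3, 1, 1, 2],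
  [0, 3, 0, 0, 0, 3, 0, 3, 1, 1, 2, 1, 1, 2, 0, 3, 3, 3, 1, 2, 0, 0, 2, 1, 2, 2, 0, 3, 1, 3, 0, 3, 3, 3, 1, 1, 1, 1, 2, 2, 0, 0, 2, 1, 2, 2, 1, 2, 2, 2],
  [1, 1, 1, 1, 2, 2, 0, 0, 2, 1, 2, 2, 1, 2, 2, 2, 0, 3, 0, 0, 0, 3, 0, 3, 1, 1, 2, 1, 1, 2, 0, 3, 3],
  [3, 1, 2, 0, 0, 2, 1, 2, 2, 0, 3, 1, 3, 0, 3, 3, 3, 2, 1, 1, 2, 2, 0, 0, 2, 2, 0, 3, 3, 1, 2, 0, 2, 1, 0, 0, 0, 2, 2, 0, 2, 0, 2, 1, 3, 3, 3, 3, 1, 1],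
  [2, 1, 1, 2, 2, 0, 0, 2, 2, 0, 3, 3, 1, 2, 0, 2, 1, 3, 1, 2, 0, 0, 2, 1, 2, 2, 0, 3, 1, 3, 0, 3, 3, 3],
  [2, 2, 0, 2, 1, 3, 1, 1, 1, 3, 1, 2, 0, 3, 1, 1, 2],
  [1, 1, 1, 3, 1, 1, 2, 1, 1, 2, 2, 1, 3, 3, 3, 1],
  [1, 2, 1, 2, 0, 3, 3, 3, 1, 2, 0, 3, 1, 3, 0, 3, 3, 1, 2, 0, 0, 2, 1, 2, 2, 0, 3, 1, 3, 0, 3, 3, 3, 0, 0, 0, 2, 2, 0, 2, 0, 2, 1, 3, 3, 3, 3, 1, 1],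
  [0, 3, 1, 3, 0, 2, 0, 0, 3, 0, 3, 3, 3, 0, 3, 1, 3, 1, 1, 2, 0, 0, 0, 2, 1, 3, 1, 2, 2, 2, 0, 0],
  [1, 1, 1, 1, 2, 2, 0, 0, 2, 1, 2, 2, 1, 2, 2, 2, 1, 1, 2, 0, 0, 0, 2, 1, 3, 1, 2, 2, 2, 0, 0, 0, 0, 0, 2, 2, 0, 2, 0, 2, 1, 3, 3, 3, 3, 1, 1],
  [3, 1, 2, 0, 0, 2, 1, 2, 2, 0, 3, 1, 3, 0, 3, 3, 3, 1, 1, 1, 1, 2, 2, 0, 0, 2, 1, 2, 2, 1, 2, 2, 2],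
  [3, 1, 3, 3, 0, 2, 1, 2, 0, 2, 0, 3, 3, 0, 3, 0, 0, 0, 0, 2, 2, 0, 2, 0, 2, 1, 3, 3, 3, 3, 1, 1, 1, 1, 2, 0, 0, 0, 2, 1, 3, 1, 2, 2, 2, 0, 0],
  [2, 2, 0, 2, 1, 3, 1, 1, 1, 3, 1, 2, 0, 3, 1, 1, 2, 2, 1, 1, 3, 1, 3, 3, 0, 2, 0, 2, 2, 1, 3, 1, 1],
  [1, 1, 1, 1, 2, 2, 0, 0, 2, 1, 2, 2, 1, 2, 2, 2, 1, 2, 2, 2, 2, 0, 0, 0, 2, 2, 0, 3, 0, 3, 0, 0, 0, 0, 0, 2, 2, 0, 2, 0, 2, 1, 3, 3, 3, 3, 1, 1],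
  [2, 0, 0, 3, 0, 0, 3, 3, 3, 0, 0, 2, 0, 2, 1, 1, 3, 1, 2, 0, 0, 2, 1, 2, 2, 0, 3, 1, 3, 0, 3, 3, 3, 2, 1, 1, 3, 1, 3, 3, 0, 2, 0, 2, 2, 1, 3, 1, 1],
  [1, 1, 2, 0, 0, 0, 2, 1, 3, 1, 2, 2, 2, 0, 0],
  [1, 1, 1, 1, 2, 2, 0, 0, 2, 1, 2, 2, 1, 2, 2, 2, 1, 1, 1, 1, 2, 2, 0, 0, 2, 1, 2, 2, 1, 2, 2, 2],
  [2, 2, 0, 2, 1, 3, 1, 1, 1, 3, 1, 2, 0, 3, 1, 1, 2, 0, 3, 1, 3, 0, 2, 0, 0, 3, 0, 3, 3, 3, 0, 3, 1, 3, 1, 1, 2, 0, 0, 0, 2, 1, 3, 1, 2, 2, 2, 0, 0],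
  [1, 1, 1, 1, 2, 2, 0, 0, 2, 1, 2, 2, 1, 2, 2, 2, 0, 3, 1, 3, 0, 2, 0, 0, 3, 0, 3, 3, 3, 0, 3, 1, 3],
  [3, 1, 2, 0, 0, 2, 1, 2, 2, 0, 3, 1, 3, 0, 3, 3, 3, 0, 3, 3, 0, 3, 1, 2, 1, 2, 0, 0, 2, 0, 0, 0, 3, 3],
  [1, 2, 1, 2, 2, 1, 3, 1, 3, 0, 3, 1, 2, 2, 0, 2, 2, 2, 0, 2, 1, 3, 1, 1, 1, 3, 1, 2, 0, 3, 1, 1, 2],
  [0, 0, 2, 2, 1, 1, 3, 0, 2, 0, 0, 3, 3, 3, 1, 3, 1, 1, 1, 1, 2, 2, 0, 0, 2, 1, 2, 2, 1, 2, 2, 2, 1, 1, 2, 0, 0, 0, 2, 1, 3, 1, 2, 2, 2, 0, 0],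
  [2, 0, 0, 3, 0, 0, 3, 3, 3, 0, 0, 2, 0, 2, 1, 1, 3, 1, 2, 0, 0, 2, 1, 2, 2, 0, 3, 1, 3, 0, 3, 3, 3],
  [2, 2, 0, 2, 1, 3, 1, 1, 1, 3, 1, 2, 0, 3, 1, 1, 2, 1, 1, 1, 3, 1, 1, 2, 1, 1, 2, 2, 1, 3, 3, 3, 1],
  [0, 3, 0, 0, 0, 3, 0, 3, 1, 1, 2, 1, 1, 2, 0, 3, 3, 0, 3, 1, 3, 0, 2, 0, 0, 3, 0, 3, 3, 3, 0, 3, 1, 3],
  [1, 1, 2, 0, 0, 3, 0, 2, 1, 2, 0, 3, 0, 0, 3, 1, 1, 3, 1, 2, 0, 0, 2, 1, 2, 2, 0, 3, 1, 3, 0, 3, 3, 3, 1, 1, 2, 0, 0, 0, 2, 1, 3, 1, 2, 2, 2, 0, 0],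
  [3, 1, 3, 0, 0, 2, 0, 2, 1, 2, 1, 2, 0, 0, 0, 3, 0, 0, 0, 0, 2, 2, 0, 2, 0, 2, 1, 3, 3, 3, 3, 1, 1],
  [0, 3, 1, 3, 0, 2, 0, 0, 3, 0, 3, 3, 3, 0, 3, 1, 3, 1, 1, 1, 1, 2, 2, 0, 0, 2, 1, 2, 2, 1, 2, 2, 2],
  [3, 0, 2, 0, 0, 3, 1, 1, 3, 1, 1, 1, 3, 0, 2, 1, 1, 1, 1, 1, 1, 2, 2, 0, 0, 2, 1, 2, 2, 1, 2, 2, 2],
  [0, 0, 2, 0, 0, 3, 0, 3, 3, 0, 3, 0, 3, 3, 1, 2, 0, 1, 3, 3, 0, 3, 1, 1, 2, 1, 1, 2, 2, 1, 2, 2, 0, 0, 0, 0, 2, 2, 0, 2, 0, 2, 1, 3, 3, 3, 3, 1, 1],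
  [3, 1, 2, 0, 0, 2, 1, 2, 2, 0, 3, 1, 3, 0, 3, 3, 3, 1, 1, 2, 0, 0, 0, 2, 1, 3, 1, 2, 2, 2, 0, 0],
  [3, 3, 1, 3, 0, 3, 3, 1, 1, 1, 1, 2, 0, 3, 3, 1, 1, 3, 0, 3, 1, 3, 0, 0, 0, 2, 1, 1, 1, 1, 3, 1, 1, 0, 0, 0, 2, 2, 0, 2, 0, 2, 1, 3, 3, 3, 3, 1, 1],
  [1, 1, 1, 1, 2, 2, 0, 0, 2, 1, 2, 2, 1, 2, 2, 2, 0, 0, 2, 1, 1, 3, 0, 0, 2, 0, 3, 0, 3, 1, 2, 1],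
  [2, 2, 0, 2, 1, 3, 1, 1, 1, 3, 1, 2, 0, 3, 1, 1, 2, 1, 1, 1, 1, 2, 2, 0, 0, 2, 1, 2, 2, 1, 2, 2, 2, 1, 1, 2, 0, 0, 0, 2, 1, 3, 1, 2, 2, 2, 0, 0],
  [3, 3, 1, 3, 0, 3, 3, 1, 1, 1, 1, 2, 0, 3, 3, 1, 1, 2, 2, 0, 2, 1, 3, 1, 1, 1, 3, 1, 2, 0, 3, 1, 1, 2, 1, 1, 2, 0, 0, 0, 2, 1, 3, 1, 2, 2, 2, 0, 0],
  [2, 0, 0, 3, 0, 0, 3, 3, 3, 0, 0, 2, 0, 2, 1, 1, 0, 0, 2, 1, 1, 3, 0, 0, 2, 0, 3, 0, 3, 1, 2, 1, 0, 0, 0, 2, 2, 0, 2, 0, 2, 1, 3, 3, 3, 3, 1, 1],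
  [0, 0, 2, 2, 1, 3, 0, 0, 0, 0, 2, 2, 1, 2, 0, 2, 2, 1, 1, 1, 1, 2, 2, 0, 0, 2, 1, 2, 2, 1, 2, 2, 2],
  [0, 2, 2, 1, 1, 2, 0, 2, 0, 0, 0, 0, 3, 3, 0, 3, 0, 2, 2, 0, 2, 1, 3, 1, 1, 1, 3, 1, 2, 0, 3, 1, 1, 2, 1, 1, 2, 0, 0, 0, 2, 1, 3, 1, 2, 2, 2, 0, 0],
  [1, 2, 1, 2, 2, 1, 3, 1, 3, 0, 3, 1, 2, 2, 0, 2, 1, 1, 1, 1, 2, 2, 0, 0, 2, 1, 2, 2, 1, 2, 2, 2],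
  [0, 3, 3, 0, 3, 1, 2, 1, 2, 0, 0, 2, 0, 0, 0, 3, 3, 0, 0, 0, 2, 2, 0, 2, 0, 2, 1, 3, 3, 3, 3, 1, 1],
  [2, 2, 0, 2, 1, 3, 1, 1, 1, 3, 1, 2, 0, 3, 1, 1, 2, 1, 3, 3, 0, 3, 1, 1, 2, 1, 1, 2, 2, 1, 2, 2, 0],
  [0, 0, 2, 2, 1, 1, 3, 0, 2, 0, 0, 3, 3, 3, 1, 3, 1, 1, 2, 0, 0, 0, 2, 1, 3, 1, 2, 2, 2, 0, 0, 0, 0, 0, 2, 2, 0, 2, 0, 2, 1, 3, 3, 3, 3, 1, 1],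
  [0, 0, 2, 1, 1, 3, 0, 0, 2, 0, 3, 0, 3, 1, 2, 1],
  [0, 3, 1, 3, 0, 2, 0, 0, 3, 0, 3, 3, 3, 0, 3, 1, 3, 2, 1, 1, 3, 1, 3, 3, 0, 2, 0, 2, 2, 1, 3, 1, 1, 1, 1, 2, 0, 0, 0, 2, 1, 3, 1, 2, 2, 2, 0, 0],
  [0, 3, 0, 0, 0, 3, 0, 3, 1, 1, 2, 1, 1, 2, 0, 3, 3, 3, 1, 2, 0, 0, 2, 1, 2, 2, 0, 3, 1, 3, 0, 3, 3, 3, 0, 0, 0, 2, 2, 0, 2, 0, 2, 1, 3, 3, 3, 3, 1, 1],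
  [1, 1, 1, 1, 2, 2, 0, 0, 2, 1, 2, 2, 1, 2, 2, 2, 0, 3, 1, 2, 2, 1, 1, 3, 0, 2, 0, 0, 0, 2, 1, 2],
  [1, 2, 2, 2, 2, 0, 0, 0, 2, 2, 0, 3, 0, 3, 0, 0, 2, 2, 0, 2, 1, 3, 1, 1, 1, 3, 1, 2, 0, 3, 1, 1, 2],
  [1, 3, 3, 1, 1, 3, 1, 2, 2, 1, 2, 2, 2, 1, 3, 1, 3, 2, 2, 0, 2, 1, 3, 1, 1, 1, 3, 1, 2, 0, 3, 1, 1, 2],
  [1, 1, 2, 0, 0, 0, 2, 1, 3, 1, 2, 2, 2, 0, 0, 0, 0, 0, 2, 2, 0, 2, 0, 2, 1, 3, 3, 3, 3, 1, 1, 1, 1, 2, 0, 0, 0, 2, 1, 3, 1, 2, 2, 2, 0, 0],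
  [2, 2, 0, 2, 1, 3, 1, 1, 1, 3, 1, 2, 0, 3, 1, 1, 2, 2, 2, 0, 2, 1, 3, 1, 1, 1, 3, 1, 2, 0, 3, 1, 1, 2, 0, 0, 0, 2, 2, 0, 2, 0, 2, 1, 3, 3, 3, 3, 1, 1],
  [3, 1, 2, 0, 0, 2, 1, 2, 2, 0, 3, 1, 3, 0, 3, 3, 3],
  [1, 3, 0, 2, 1, 3, 0, 3, 0, 2, 2, 2, 2, 0, 3, 3, 0, 1, 1, 1, 1, 2, 2, 0, 0, 2, 1, 2, 2, 1, 2, 2, 2, 0, 0, 0, 2, 2, 0, 2, 0, 2, 1, 3, 3, 3, 3, 1, 1],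
  [0, 3, 1, 3, 0, 2, 0, 0, 3, 0, 3, 3, 3, 0, 3, 1, 3],
  [3, 1, 2, 0, 0, 2, 1, 2, 2, 0, 3, 1, 3, 0, 3, 3, 3, 1, 3, 3, 0, 3, 1, 1, 2, 1, 1, 2, 2, 1, 2, 2, 0],
  [0, 3, 3, 0, 3, 1, 2, 1, 2, 0, 0, 2, 0, 0, 0, 3, 3, 3, 1, 2, 0, 0, 2, 1, 2, 2, 0, 3, 1, 3, 0, 3, 3, 3, 1, 1, 2, 0, 0, 0, 2, 1, 3, 1, 2, 2, 2, 0, 0],
  [3, 0, 3, 1, 3, 0, 0, 0, 2, 1, 1, 1, 1, 3, 1, 1, 1, 1, 2, 0, 0, 0, 2, 1, 3, 1, 2, 2, 2, 0, 0, 0, 0, 0, 2, 2, 0, 2, 0, 2, 1, 3, 3, 3, 3, 1, 1],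
  [0, 0, 2, 0, 0, 3, 0, 3, 3, 0, 3, 0, 3, 3, 1, 2, 0, 0, 0, 0, 2, 2, 0, 2, 0, 2, 1, 3, 3, 3, 3, 1, 1],
  [2, 1, 1, 3, 1, 3, 3, 0, 2, 0, 2, 2, 1, 3, 1, 1, 1, 2, 1, 2, 2, 1, 3, 1, 3, 0, 3, 1, 2, 2, 0, 2, 0, 0, 0, 2, 2, 0, 2, 0, 2, 1, 3, 3, 3, 3, 1, 1],
  [3, 1, 3, 3, 3, 0, 2, 0, 2, 0, 3, 1, 2, 2, 1, 3, 3, 0, 0, 0, 2, 2, 0, 2, 0, 2, 1, 3, 3, 3, 3, 1, 1],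
  [1, 1, 1, 1, 2, 2, 0, 0, 2, 1, 2, 2, 1, 2, 2, 2],
  [1, 1, 2, 0, 0, 0, 2, 1, 3, 1, 2, 2, 2, 0, 0, 1, 1, 1, 1, 2, 2, 0, 0, 2, 1, 2, 2, 1, 2, 2, 2],
  [1, 2, 2, 2, 2, 0, 0, 0, 2, 2, 0, 3, 0, 3, 0, 0, 1, 1, 1, 1, 2, 2, 0, 0, 2, 1, 2, 2, 1, 2, 2, 2],
  [1, 3, 0, 2, 1, 3, 0, 3, 0, 2, 2, 2, 2, 0, 3, 3, 0, 1, 1, 1, 1, 2, 2, 0, 0, 2, 1, 2, 2, 1, 2, 2, 2],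
  [2, 2, 0, 2, 1, 3, 1, 1, 1, 3, 1, 2, 0, 3, 1, 1, 2, 3, 0, 3, 1, 3, 0, 0, 0, 2, 1, 1, 1, 1, 3, 1, 1],
  [0, 2, 2, 1, 1, 2, 0, 2, 0, 0, 0, 0, 3, 3, 0, 3, 0, 1, 1, 1, 1, 2, 2, 0, 0, 2, 1, 2, 2, 1, 2, 2, 2],
  [3, 1, 2, 0, 0, 2, 1, 2, 2, 0, 3, 1, 3, 0, 3, 3, 3, 0, 0, 0, 2, 2, 0, 2, 0, 2, 1, 3, 3, 3, 3, 1, 1, 1, 1, 2, 0, 0, 0, 2, 1, 3, 1, 2, 2, 2, 0, 0],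
  [0, 0, 0, 2, 2, 0, 2, 0, 2, 1, 3, 3, 3, 3, 1, 1, 1, 3, 3, 0, 3, 1, 1, 2, 1, 1, 2, 2, 1, 2, 2, 0],
  [0, 0, 2, 0, 3, 3, 1, 3, 1, 2, 2, 0, 2, 0, 0, 3, 0, 0, 0, 2, 2, 0, 2, 0, 2, 1, 3, 3, 3, 3, 1, 1],
  [2, 0, 0, 3, 0, 0, 3, 3, 3, 0, 0, 2, 0, 2, 1, 1, 0, 0, 0, 2, 2, 0, 2, 0, 2, 1, 3, 3, 3, 3, 1, 1],
  [2, 1, 1, 2, 2, 0, 0, 2, 2, 0, 3, 3, 1, 2, 0, 2, 1, 1, 1, 2, 0, 0, 0, 2, 1, 3, 1, 2, 2, 2, 0, 0, 0, 0, 0, 2, 2, 0, 2, 0, 2, 1, 3, 3, 3, 3, 1, 1],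
  [1, 3, 3, 1, 1, 3, 1, 2, 2, 1, 2, 2, 2, 1, 3, 1, 3, 1, 1, 1, 1, 2, 2, 0, 0, 2, 1, 2, 2, 1, 2, 2, 2],
  [1, 2, 1, 2, 0, 3, 3, 3, 1, 2, 0, 3, 1, 3, 0, 3, 3, 1, 2, 0, 0, 2, 1, 2, 2, 0, 3, 1, 3, 0, 3, 3, 3, 1, 1, 2, 0, 0, 0, 2, 1, 3, 1, 2, 2, 2, 0, 0],
  [0, 3, 3, 0, 3, 1, 2, 1, 2, 0, 0, 2, 0, 0, 0, 3, 3, 1, 2, 2, 2, 2, 0, 0, 0, 2, 2, 0, 3, 0, 3, 0, 0, 0, 0, 0, 2, 2, 0, 2, 0, 2, 1, 3, 3, 3, 3, 1, 1],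
  [1, 3, 3, 0, 3, 1, 1, 2, 1, 1, 2, 2, 1, 2, 2, 0, 2, 2, 0, 2, 1, 3, 1, 1, 1, 3, 1, 2, 0, 3, 1, 1, 2, 1, 1, 2, 0, 0, 0, 2, 1, 3, 1, 2, 2, 2, 0, 0],
  [3, 3, 1, 3, 0, 3, 3, 1, 1, 1, 1, 2, 0, 3, 3, 1, 1, 0, 0, 0, 2, 2, 0, 2, 0, 2, 1, 3, 3, 3, 3, 1, 1],
  [0, 0, 0, 2, 2, 0, 2, 0, 2, 1, 3, 3, 3, 3, 1, 1, 3, 0, 3, 1, 3, 0, 0, 0, 2, 1, 1, 1, 1, 3, 1, 1],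
  [2, 2, 0, 2, 1, 3, 1, 1, 1, 3, 1, 2, 0, 3, 1, 1, 2, 1, 1, 2, 0, 0, 0, 2, 1, 3, 1, 2, 2, 2, 0, 0],
  [1, 1, 1, 1, 2, 2, 0, 0, 2, 1, 2, 2, 1, 2, 2, 2, 2, 1, 1, 3, 1, 3, 3, 0, 2, 0, 2, 2, 1, 3, 1, 1],
  [0, 3, 1, 3, 0, 2, 0, 0, 3, 0, 3, 3, 3, 0, 3, 1, 3, 0, 0, 2, 1, 1, 3, 0, 0, 2, 0, 3, 0, 3, 1, 2, 1],
  [3, 1, 3, 3, 0, 2, 1, 2, 0, 2, 0, 3, 3, 0, 3, 0, 1, 1, 1, 1, 2, 2, 0, 0, 2, 1, 2, 2, 1, 2, 2, 2],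
  [1, 1, 2, 0, 0, 3, 0, 2, 1, 2, 0, 3, 0, 0, 3, 1, 1, 1, 1, 2, 0, 0, 0, 2, 1, 3, 1, 2, 2, 2, 0, 0, 0, 0, 0, 2, 2, 0, 2, 0, 2, 1, 3, 3, 3, 3, 1, 1],
  [3, 1, 2, 0, 0, 2, 1, 2, 2, 0, 3, 1, 3, 0, 3, 3, 3, 2, 2, 0, 2, 1, 3, 3, 3, 1, 3, 1, 1, 1, 2, 1, 1, 3],
  [0, 0, 2, 0, 0, 3, 0, 3, 3, 0, 3, 0, 3, 3, 1, 2, 0, 3, 1, 2, 0, 0, 2, 1, 2, 2, 0, 3, 1, 3, 0, 3, 3, 3, 1, 1, 2, 0, 0, 0, 2, 1, 3, 1, 2, 2, 2, 0, 0],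
  [3, 0, 3, 1, 3, 0, 0, 0, 2, 1, 1, 1, 1, 3, 1, 1, 0, 0, 0, 2, 2, 0, 2, 0, 2, 1, 3, 3, 3, 3, 1, 1],
  [0, 3, 1, 3, 0, 2, 0, 0, 3, 0, 3, 3, 3, 0, 3, 1, 3, 3, 1, 2, 0, 0, 2, 1, 2, 2, 0, 3, 1, 3, 0, 3, 3, 3],
  [0, 3, 3, 0, 3, 1, 2, 1, 2, 0, 0, 2, 0, 0, 0, 3, 3, 0, 3, 1, 3, 0, 2, 0, 0, 3, 0, 3, 3, 3, 0, 3, 1, 3],
  [0, 3, 3, 0, 3, 1, 2, 1, 2, 0, 0, 2, 0, 0, 0, 3, 3, 1, 1, 1, 1, 2, 2, 0, 0, 2, 1, 2, 2, 1, 2, 2, 2],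
  [1, 1, 2, 0, 0, 3, 0, 2, 1, 2, 0, 3, 0, 0, 3, 1, 1, 0, 0, 0, 2, 2, 0, 2, 0, 2, 1, 3, 3, 3, 3, 1, 1],
  [2, 1, 1, 3, 1, 3, 3, 0, 2, 0, 2, 2, 1, 3, 1, 1, 0, 0, 0, 2, 2, 0, 2, 0, 2, 1, 3, 3, 3, 3, 1, 1],
  [1, 1, 2, 2, 1, 1, 1, 3, 0, 3, 0, 2, 2, 2, 1, 1, 1, 3, 1, 2, 0, 0, 2, 1, 2, 2, 0, 3, 1, 3, 0, 3, 3, 3, 1, 1, 2, 0, 0, 0, 2, 1, 3, 1, 2, 2, 2, 0, 0],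
  [3, 0, 3, 1, 3, 0, 0, 0, 2, 1, 1, 1, 1, 3, 1, 1, 1, 1, 1, 1, 2, 2, 0, 0, 2, 1, 2, 2, 1, 2, 2, 2],
  [0, 3, 3, 0, 3, 1, 2, 1, 2, 0, 0, 2, 0, 0, 0, 3, 3, 3, 0, 3, 1, 3, 0, 0, 0, 2, 1, 1, 1, 1, 3, 1, 1, 0, 0, 0, 2, 2, 0, 2, 0, 2, 1, 3, 3, 3, 3, 1, 1],
  [0, 0, 2, 1, 1, 3, 0, 0, 2, 0, 3, 0, 3, 1, 2, 1, 0, 0, 0, 2, 2, 0, 2, 0, 2, 1, 3, 3, 3, 3, 1, 1],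
  [2, 1, 1, 2, 2, 0, 0, 2, 2, 0, 3, 3, 1, 2, 0, 2, 1, 1, 1, 1, 1, 2, 2, 0, 0, 2, 1, 2, 2, 1, 2, 2, 2],
  [3, 1, 2, 0, 0, 2, 1, 2, 2, 0, 3, 1, 3, 0, 3, 3, 3, 1, 2, 2, 2, 2, 0, 0, 0, 2, 2, 0, 3, 0, 3, 0, 0],
  [1, 1, 1, 1, 2, 2, 0, 0, 2, 1, 2, 2, 1, 2, 2, 2, 1, 2, 2, 2, 2, 0, 0, 0, 2, 2, 0, 3, 0, 3, 0, 0],
  [1, 2, 1, 2, 0, 3, 3, 3, 1, 2, 0, 3, 1, 3, 0, 3],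
  [1, 1, 2, 2, 1, 1, 1, 3, 0, 3, 0, 2, 2, 2, 1, 1, 1, 1, 1, 1, 1, 2, 2, 0, 0, 2, 1, 2, 2, 1, 2, 2, 2, 1, 1, 1, 1, 2, 2, 0, 0, 2, 1, 2, 2, 1, 2, 2, 2],
  [0, 3, 1, 3, 0, 2, 0, 0, 3, 0, 3, 3, 3, 0, 3, 1, 3, 2, 2, 0, 2, 1, 3, 1, 1, 1, 3, 1, 2, 0, 3, 1, 1, 2, 3, 0, 3, 1, 3, 0, 0, 0, 2, 1, 1, 1, 1, 3, 1, 1],
  [2, 2, 0, 2, 1, 3, 3, 3, 1, 3, 1, 1, 1, 2, 1, 1, 3, 0, 3, 1, 3, 0, 2, 0, 0, 3, 0, 3, 3, 3, 0, 3, 1, 3, 1, 1, 2, 0, 0, 0, 2, 1, 3, 1, 2, 2, 2, 0, 0],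
  [0, 0, 0, 2, 2, 0, 2, 0, 2, 1, 3, 3, 3, 3, 1, 1, 1, 2, 1, 2, 0, 3, 3, 3, 1, 2, 0, 3, 1, 3, 0, 3],
  [1, 1, 2, 0, 0, 0, 2, 1, 3, 1, 2, 2, 2, 0, 0, 2, 2, 0, 2, 1, 3, 1, 1, 1, 3, 1, 2, 0, 3, 1, 1, 2, 0, 0, 0, 2, 2, 0, 2, 0, 2, 1, 3, 3, 3, 3, 1, 1],
  [0, 3, 1, 3, 0, 2, 0, 0, 3, 0, 3, 3, 3, 0, 3, 1, 3, 0, 0, 2, 0, 3, 3, 1, 3, 1, 2, 2, 0, 2, 0, 0, 3, 0, 0, 0, 2, 2, 0, 2, 0, 2, 1, 3, 3, 3, 3, 1, 1],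
  [1, 2, 0, 3, 1, 1, 1, 3, 1, 3, 1, 1, 1, 1, 2, 1, 1, 2, 2, 0, 2, 1, 3, 1, 1, 1, 3, 1, 2, 0, 3, 1, 1, 2],
  [3, 1, 2, 0, 0, 2, 1, 2, 2, 0, 3, 1, 3, 0, 3, 3, 3, 1, 1, 1, 3, 1, 1, 2, 1, 1, 2, 2, 1, 3, 3, 3, 1],
  [2, 1, 1, 3, 1, 3, 3, 0, 2, 0, 2, 2, 1, 3, 1, 1, 1, 1, 1, 1, 2, 2, 0, 0, 2, 1, 2, 2, 1, 2, 2, 2],
  [0, 0, 0, 2, 2, 0, 2, 0, 2, 1, 3, 3, 3, 3, 1, 1, 1, 2, 2, 2, 2, 0, 0, 0, 2, 2, 0, 3, 0, 3, 0, 0],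
  [1, 1, 1, 3, 1, 1, 2, 1, 1, 2, 2, 1, 3, 3, 3, 1, 1, 2, 1, 2, 2, 1, 3, 1, 3, 0, 3, 1, 2, 2, 0, 2, 0, 0, 0, 2, 2, 0, 2, 0, 2, 1, 3, 3, 3, 3, 1, 1],
  [2, 1, 1, 2, 2, 0, 0, 2, 2, 0, 3, 3, 1, 2, 0, 2, 1, 0, 0, 0, 2, 2, 0, 2, 0, 2, 1, 3, 3, 3, 3, 1, 1],
  [0, 2, 2, 0, 3, 3, 1, 1, 3, 3, 3, 0, 2, 1, 2, 0, 0, 2, 2, 0, 2, 1, 3, 1, 1, 1, 3, 1, 2, 0, 3, 1, 1, 2, 1, 1, 2, 0, 0, 0, 2, 1, 3, 1, 2, 2, 2, 0, 0],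
  [1, 1, 1, 1, 2, 2, 0, 0, 2, 1, 2, 2, 1, 2, 2, 2, 3, 1, 2, 0, 0, 2, 1, 2, 2, 0, 3, 1, 3, 0, 3, 3, 3, 1, 1, 2, 0, 0, 0, 2, 1, 3, 1, 2, 2, 2, 0, 0],
  [0, 0, 2, 2, 1, 1, 3, 0, 2, 0, 0, 3, 3, 3, 1, 3, 0, 0, 0, 2, 2, 0, 2, 0, 2, 1, 3, 3, 3, 3, 1, 1],
  [1, 1, 2, 0, 0, 3, 0, 2, 1, 2, 0, 3, 0, 0, 3, 1, 1, 1, 1, 1, 1, 2, 2, 0, 0, 2, 1, 2, 2, 1, 2, 2, 2],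
  [0, 0, 2, 1, 1, 3, 0, 0, 2, 0, 3, 0, 3, 1, 2, 1, 3, 1, 2, 0, 0, 2, 1, 2, 2, 0, 3, 1, 3, 0, 3, 3, 3, 1, 1, 2, 0, 0, 0, 2, 1, 3, 1, 2, 2, 2, 0, 0],
  [3, 1, 2, 0, 0, 2, 1, 2, 2, 0, 3, 1, 3, 0, 3, 3, 3, 0, 3, 0, 0, 0, 3, 0, 3, 1, 1, 2, 1, 1, 2, 0, 3, 3],
  [0, 3, 1, 2, 2, 1, 1, 3, 0, 2, 0, 0, 0, 2, 1, 2, 1, 1, 1, 1, 2, 2, 0, 0, 2, 1, 2, 2, 1, 2, 2, 2],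
  [0, 0, 2, 0, 0, 3, 0, 3, 3, 0, 3, 0, 3, 3, 1, 2, 0, 2, 2, 0, 2, 1, 3, 1, 1, 1, 3, 1, 2, 0, 3, 1, 1, 2, 1, 1, 2, 0, 0, 0, 2, 1, 3, 1, 2, 2, 2, 0, 0],
  [0, 0, 2, 1, 1, 3, 0, 0, 2, 0, 3, 0, 3, 1, 2, 1, 2, 0, 0, 3, 0, 0, 3, 3, 3, 0, 0, 2, 0, 2, 1, 1, 0, 0, 0, 2, 2, 0, 2, 0, 2, 1, 3, 3, 3, 3, 1, 1],
  [2, 0, 0, 3, 0, 0, 3, 3, 3, 0, 0, 2, 0, 2, 1, 1, 0, 3, 1, 3, 0, 2, 0, 0, 3, 0, 3, 3, 3, 0, 3, 1, 3],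
  [1, 3, 0, 2, 1, 3, 0, 3, 0, 2, 2, 2, 2, 0, 3, 3, 0, 3, 1, 2, 0, 0, 2, 1, 2, 2, 0, 3, 1, 3, 0, 3, 3, 3, 1, 1, 2, 0, 0, 0, 2, 1, 3, 1, 2, 2, 2, 0, 0],
  [2, 0, 0, 3, 0, 0, 3, 3, 3, 0, 0, 2, 0, 2, 1, 1, 1, 1, 1, 1, 2, 2, 0, 0, 2, 1, 2, 2, 1, 2, 2, 2],
  [0, 3, 1, 2, 2, 1, 1, 3, 0, 2, 0, 0, 0, 2, 1, 2, 0, 0, 2, 0, 0, 3, 0, 3, 3, 0, 3, 0, 3, 3, 1, 2, 0, 0, 0, 0, 2, 2, 0, 2, 0, 2, 1, 3, 3, 3, 3, 1, 1],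
  [2, 2, 0, 2, 1, 3, 1, 1, 1, 3, 1, 2, 0, 3, 1, 1, 2, 0, 3, 1, 2, 2, 1, 1, 3, 0, 2, 0, 0, 0, 2, 1, 2],
  [0, 0, 0, 2, 2, 0, 2, 0, 2, 1, 3, 3, 3, 3, 1, 1, 1, 1, 1, 1, 2, 2, 0, 0, 2, 1, 2, 2, 1, 2, 2, 2],
  [1, 2, 2, 2, 2, 0, 0, 0, 2, 2, 0, 3, 0, 3, 0, 0, 0, 0, 0, 2, 2, 0, 2, 0, 2, 1, 3, 3, 3, 3, 1, 1],
  [3, 1, 3, 3, 3, 0, 2, 0, 2, 0, 3, 1, 2, 2, 1, 3, 3, 1, 1, 1, 1, 2, 2, 0, 0, 2, 1, 2, 2, 1, 2, 2, 2, 0, 0, 0, 2, 2, 0, 2, 0, 2, 1, 3, 3, 3, 3, 1, 1],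
  [1, 2, 1, 2, 0, 3, 3, 3, 1, 2, 0, 3, 1, 3, 0, 3, 0, 0, 0, 2, 2, 0, 2, 0, 2, 1, 3, 3, 3, 3, 1, 1],
  [1, 2, 0, 3, 1, 1, 1, 3, 1, 3, 1, 1, 1, 1, 2, 1, 1, 1, 1, 1, 1, 2, 2, 0, 0, 2, 1, 2, 2, 1, 2, 2, 2],
  [1, 1, 2, 0, 0, 0, 2, 1, 3, 1, 2, 2, 2, 0, 0, 0, 0, 0, 2, 2, 0, 2, 0, 2, 1, 3, 3, 3, 3, 1, 1],
  [2, 2, 0, 2, 1, 3, 1, 1, 1, 3, 1, 2, 0, 3, 1, 1, 2, 1, 2, 2, 2, 2, 0, 0, 0, 2, 2, 0, 3, 0, 3, 0, 0],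
  [0, 0, 2, 1, 1, 3, 0, 0, 2, 0, 3, 0, 3, 1, 2, 1, 3, 0, 3, 1, 3, 0, 0, 0, 2, 1, 1, 1, 1, 3, 1, 1, 0, 0, 0, 2, 2, 0, 2, 0, 2, 1, 3, 3, 3, 3, 1, 1],
  [1, 3, 3, 0, 3, 1, 1, 2, 1, 1, 2, 2, 1, 2, 2, 0, 0, 0, 0, 2, 2, 0, 2, 0, 2, 1, 3, 3, 3, 3, 1, 1]]

end Cfsg.Agent.Lib.Helper16.FusMcL
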