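import Cfsg.Agent.Lib.Helper16.FusMcL.Chk
import Cfsg.Agent.Lib.Helper16.FusMcL.Crit

set_option autoImplicit false

/-!
# The 2-fusion system of the McLaughlin group is simple

On helper4's model `P` on 275 points: the Sylow 2-subgroup `S2` has centre `{1, t}`, is generated by
involutions (all conjugate to `t`), and is its own normaliser: an element normalising `S2` centralises `t`,
fixes the only fixed point `13` of `S2` and the only orbit `{1, 117}` of length two, and the subgroup of the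
centraliser of `t` doing so has index at least 315, hence order at most 128.
-/

namespace Cfsg.Agent.Lib.Helper16.FusMcL

open Cfsg Cfsg.Agent.Lib.Helper10.SX Cfsg.Agent.Lib.Helper4.McL Cfsg.Agent.Lib.Helper3.Fus

open scoped Pointwise

noncomputable section

/-- the elements of the Sylow 2-subgroup, by index -/
def sw (i : ℕ) : ↥P := gw (wd SWs i)

theorem sw_mem {i : ℕ} (hi : i < 128) : sw i ∈ S2 := wgS.gw_mem hi

theorem mem_S2 (g : ↥P) : g ∈ S2 ↔ ∃ i, i < 128 ∧ g = sw i := Iff.rfl

theorem sw_mul {i j : ℕ} (hi : i < 128) (hj : j < 128) : sw i * sw j = sw (mtS i j) :=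
  wgS.mul_eq hi hj

theorem mtS_lt {i j : ℕ} (hi : i < 128) (hj : j < 128) : mtS i j < 128 := wgS.mt_lt hi hj

theorem sw_inj {i j : ℕ} (hi : i < 128) (hj : j < 128) (e : sw i = sw j) : i = j := wgS.inj hi hj e

theorem sw_zero : sw 0 = 1 := by
  unfold sw
  rw [wgS.one]
  rfl

theorem sw_t : sw 72 = t := (sigEq_iff _ _).mp t72

theorem t_mem_S2 : t ∈ S2 := ⟨72, by norm_num, sw_t.symm⟩

theorem S2_comm_t : ∀ s ∈ S2, s * t = t * s := by
  intro s hs
  obtain ⟨i, hi, rfl⟩ := (mem_S2 s).mp hs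
  have h := commTC
  unfold commTB at h
  rw [allLt_iff] at h
  have h := h i hi
  rw [beq_iff_eq] at h
  rw [← sw_t, sw_mul hi (by norm_num), sw_mul (by norm_num) hi, h]

theorem S2_cen : ∀ x ∈ S2, (∀ y ∈ S2, x * y = y * x) → x = 1 ∨ x = t := by
  intro x hx hc
  obtain ⟨i, hi, rfl⟩ := (mem_S2 x).mp hx
  have h := cenC
  unfold cenB at h
  rw [allLt_iff] at h
  have h := h i hi
  rw [Bool.or_eq_true, Bool.or_eq_true] at h
  rcases h with (h | h) | h
  · left
    rw [beq_iff_eq] at h
    rw [h, sw_zero]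
  · right
    rw [beq_iff_eq] at h
    rw [h, sw_t]
  · exfalso
    rw [Bool.not_eq_true', ← Bool.not_eq_true] at h
    apply h
    rw [allLt_iff]
    intro j hj
    rw [beq_iff_eq]
    have e := hc (sw j) (sw_mem hj)
    rw [sw_mul hi hj, sw_mul hj hi] at e
    exact sw_inj (mtS_lt hi hj) (mtS_lt hj hi) e

/-! ### the action on the points `13`, `1`, `117` -/

theorem sw_smul_val (i : ℕ) (p : Fin 275) : (sw i • p).val = evW (wd SWs i) p.val :=
  gw_smul_val _ p

theorem fpt_inj {a b : ℕ} (ha : a < 275) (hb : b < 275) (h : fpt a = fpt b) : a = b := by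
  have := congrArg Fin.val h
  rwa [fpt_val ha, fpt_val hb] at this

theorem eq_fpt {p : Fin 275} {a : ℕ} (ha : a < 275) (h : p.val = a) : p = fpt a := by
  apply Fin.ext
  rw [fpt_val ha, h]

theorem S2_fix : ∀ s ∈ S2, s • fpt 13 = fpt 13 ∧
    ((s • fpt 1 = fpt 1 ∧ s • fpt 117 = fpt 117) ∨ (s • fpt 1 = fpt 117 ∧ s • fpt 117 = fpt 1)) := by
  intro s hs
  obtain ⟨i, hi, rfl⟩ := (mem_S2 s).mp hs
  have h := fixC
  unfold fixB at h
  rw [allLt_iff] at h
  have h := h i hi
  rw [Bool.and_eq_true, Bool.or_eq_true, Bool.and_eq_true, Bool.and_eq_true] at h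
  simp only [beq_iff_eq] at h
  obtain ⟨h13, h2⟩ := h
  have v13 : (fpt 13).val = 13 := fpt_val (by norm_num)
  have v1 : (fpt 1).val = 1 := fpt_val (by norm_num)
  have v117 : (fpt 117).val = 117 := fpt_val (by norm_num)
  refine ⟨eq_fpt (by norm_num) (by rw [sw_smul_val, v13]; exact h13), ?_⟩
  rcases h2 with ⟨ha, hb⟩ | ⟨ha, hb⟩
  · left
    exact ⟨eq_fpt (by norm_num) (by rw [sw_smul_val, v1]; exact ha),
      eq_fpt (by norm_num) (by rw [sw_smul_val, v117]; exact hb)⟩
  · right
    exact ⟨eq_fpt (by norm_num) (by rw [sw_smul_val, v1]; exact ha),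
      eq_fpt (by norm_num) (by rw [sw_smul_val, v117]; exact hb)⟩

/-- conjugates of elements of `S2` by an element of the normaliser -/
theorem conj_mem_S2 {g : ↥P} (hg : g ∈ Subgroup.normalizer (S2 : Set ↥P)) {s : ↥P} (hs : s ∈ S2) :
    g⁻¹ * s * g ∈ S2 := by
  rw [Subgroup.mem_normalizer_iff] at hg
  rw [hg (g⁻¹ * s * g)]
  have e : g * (g⁻¹ * s * g) * g⁻¹ = s := by group
  rw [e]
  exact hs

theorem smul_conj (g s : ↥P) (p : Fin 275) : s • (g • p) = g • ((g⁻¹ * s * g) • p) := by
  rw [← mul_smul, ← mul_smul]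
  congr 1
  group

/-- the normaliser centralises the involution -/
theorem normalizer_comm_t {g : ↥P} (hg : g ∈ Subgroup.normalizer (S2 : Set ↥P)) : g * t = t * g := by
  have hgz : g * t * g⁻¹ ∈ S2 := (Subgroup.mem_normalizer_iff.mp hg t).mp t_mem_S2
  have hc : ∀ y ∈ S2, (g * t * g⁻¹) * y = y * (g * t * g⁻¹) := by
    intro y hy
    have h1 := S2_comm_t _ (conj_mem_S2 hg hy)
    calc g * t * g⁻¹ * y = g * (t * (g⁻¹ * y * g)) * g⁻¹ := by group
      _ = g * ((g⁻¹ * y * g) * t) * g⁻¹ := by rw [h1]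
      _ = y * (g * t * g⁻¹) := by group
  rcases S2_cen _ hgz hc with h | h
  · exfalso
    apply t_ne
    have : t = g⁻¹ * (g * t * g⁻¹) * g := by group
    rw [this, h]; group
  · calc g * t = (g * t * g⁻¹) * g := by group
      _ = t * g := by rw [h]

/-- the normaliser fixes the point `13` -/
theorem normalizer_fix {g : ↥P} (hg : g ∈ Subgroup.normalizer (S2 : Set ↥P)) :
    g • fpt 13 = fpt 13 := by
  have h1 : sw 17 • (g • fpt 13) = g • fpt 13 := by
    rw [smul_conj, (S2_fix _ (conj_mem_S2 hg (sw_mem (by norm_num)))).1]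
  have h := moveC
  unfold moveB at h
  rw [allLt_iff] at h
  have h := h (g • fpt 13).val (g • fpt 13).isLt
  rw [Bool.or_eq_true, beq_iff_eq, Bool.not_eq_true', beq_eq_false_iff_ne] at h
  rcases h with h | h
  · exact eq_fpt (by norm_num) h
  · exfalso
    apply h
    rw [← sw_smul_val, h1]

/-- the images of the points `1`, `117` under an element of the normaliser -/
theorem normalizer_pair_aux {g : ↥P} (hg : g ∈ Subgroup.normalizer (S2 : Set ↥P)) {a : ℕ}
    (ha : a = 1 ∨ a = 117) : g • fpt a = fpt 1 ∨ g • fpt a = fpt 117 := by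
  have ha275 : a < 275 := by rcases ha with rfl | rfl <;> norm_num
  -- the images under `S2` of `g • fpt a` lie in a set of two points
  have hs : ∀ s ∈ S2, s • (g • fpt a) = g • fpt 1 ∨ s • (g • fpt a) = g • fpt 117 := by
    intro s hs
    rw [smul_conj]
    have h2 := (S2_fix _ (conj_mem_S2 hg hs)).2
    rcases ha with rfl | rfl
    · rcases h2 with ⟨h, -⟩ | ⟨h, -⟩
      · left; rw [h]
      · right; rw [h]
    · rcases h2 with ⟨-, h⟩ | ⟨-, h⟩
      · right; rw [h]
      · left; rw [h]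
  have hq : g • fpt a = g • fpt 1 ∨ g • fpt a = g • fpt 117 := by
    rcases ha with rfl | rfl
    · left; rfl
    · right; rfl
  have h := orbC
  unfold orbB at h
  rw [allLt_iff] at h
  have h := h (g • fpt a).val (g • fpt a).isLt
  rw [Bool.or_eq_true, Bool.or_eq_true, Bool.or_eq_true] at h
  rcases h with ((h | h) | h) | h
  · -- the image is not `13`
    exfalso
    rw [beq_iff_eq] at h
    have e : g • fpt a = g • fpt 13 := by
      rw [normalizer_fix hg]
      exact eq_fpt (by norm_num) h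
    have e2 : fpt a = fpt 13 := by
      have := congrArg (fun x => g⁻¹ • x) e
      simpa using this
    have := fpt_inj ha275 (by norm_num) e2
    rcases ha with rfl | rfl <;> omega
  · left
    rw [beq_iff_eq] at h
    exact eq_fpt (by norm_num) h
  · right
    rw [beq_iff_eq] at h
    exact eq_fpt (by norm_num) h
  · exfalso
    rw [Bool.and_eq_true, Bool.and_eq_true, Bool.and_eq_true, Bool.and_eq_true] at h
    obtain ⟨⟨⟨⟨hi, hj⟩, h1⟩, h2⟩, h3⟩ := h
    have hi' : oi (g • fpt a).val < 128 := by simpa [Nat.blt] using hi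
    have hj' : oj (g • fpt a).val < 128 := by simpa [Nat.blt] using hj
    rw [Bool.not_eq_true', beq_eq_false_iff_ne, ← sw_smul_val] at h1 h2
    rw [Bool.not_eq_true', beq_eq_false_iff_ne, ← sw_smul_val, ← sw_smul_val] at h3
    have n1 : sw (oi (g • fpt a).val) • (g • fpt a) ≠ g • fpt a := fun e => h1 (congrArg Fin.val e)
    have n2 : sw (oj (g • fpt a).val) • (g • fpt a) ≠ g • fpt a := fun e => h2 (congrArg Fin.val e)
    have n3 : sw (oi (g • fpt a).val) • (g • fpt a) ≠ sw (oj (g • fpt a).val) • (g • fpt a) :=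
      fun e => h3 (congrArg Fin.val e)
    have c1 := hs _ (sw_mem hi')
    have c2 := hs _ (sw_mem hj')
    rcases hq with hq | hq <;> rcases c1 with c1 | c1 <;> rcases c2 with c2 | c2
    · exact n1 (c1.trans hq.symm)
    · exact n1 (c1.trans hq.symm)
    · exact n2 (c2.trans hq.symm)
    · exact n3 (c1.trans c2.symm)
    · exact n3 (c1.trans c2.symm)
    · exact n2 (c2.trans hq.symm)
    · exact n1 (c1.trans hq.symm)
    · exact n1 (c1.trans hq.symm)

theorem normalizer_pair {g : ↥P} (hg : g ∈ Subgroup.normalizer (S2 : Set ↥P)) :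
    (g • fpt 1 = fpt 1 ∧ g • fpt 117 = fpt 117) ∨ (g • fpt 1 = fpt 117 ∧ g • fpt 117 = fpt 1) := by
  have hne : g • fpt 1 ≠ g • fpt 117 := by
    intro e
    have e2 : fpt 1 = fpt 117 := by
      have := congrArg (fun x => g⁻¹ • x) e
      simpa using this
    have := fpt_inj (by norm_num) (by norm_num) e2
    omega
  rcases normalizer_pair_aux hg (Or.inl rfl) with h1 | h1 <;>
    rcases normalizer_pair_aux hg (Or.inr rfl) with h2 | h2
  · exact absurd (h1.trans h2.symm) hne
  · exact Or.inl ⟨h1, h2⟩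
  · exact Or.inr ⟨h1, h2⟩
  · exact absurd (h1.trans h2.symm) hne

/-! ### the stabiliser of the configuration in the centraliser of the involution -/

/-- the set of elements fixing the configuration -/
def KSet : Set ↥P := {c | c * t = t * c ∧ c • fpt 13 = fpt 13 ∧
  ((c • fpt 1 = fpt 1 ∧ c • fpt 117 = fpt 117) ∨ (c • fpt 1 = fpt 117 ∧ c • fpt 117 = fpt 1))}

/-- the code of the configuration of an element -/
def codeP (c : ↥P) : ℕ :=
  (c • fpt 13).val * 75625 + min (c • fpt 1).val (c • fpt 117).val * 275 +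
    max (c • fpt 1).val (c • fpt 117).val

theorem codeP_gw (w : List ℕ) : codeP (gw w) = codeOf w := by
  unfold codeP codeOf
  rw [gw_smul_val, gw_smul_val, gw_smul_val, fpt_val (by norm_num), fpt_val (by norm_num),
    fpt_val (by norm_num)]

theorem codeP_mul (c : ↥P) {k : ↥P} (hk : k ∈ KSet) : codeP (c * k) = codeP c := by
  obtain ⟨-, h13, h2⟩ := hk
  unfold codeP
  rw [mul_smul, mul_smul, mul_smul, h13]
  rcases h2 with ⟨h1, h117⟩ | ⟨h1, h117⟩
  · rw [h1, h117]
  · rw [h1, h117, min_comm, max_comm]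

/-- the coset representatives -/
def rw' (i : ℕ) : ↥P := gw (wd RW i)

theorem rw_comm_t {i : ℕ} (hi : i < 315) : rw' i * t = t * rw' i := by
  have h := cenRC
  unfold cenRB at h
  rw [allLt_iff] at h
  have h := (sigEq_iff _ _).mp (h i hi)
  rw [gw_append, gw_append] at h
  exact h

theorem rw_inj {i j : ℕ} (hi : i < 315) (hj : j < 315) (e : codeP (rw' i) = codeP (rw' j)) :
    i = j := by
  have hnd := nodup_of_incrFrom _ _ codesC
  unfold rw' at e
  rw [codeP_gw, codeP_gw] at e
  exact List.inj_on_of_nodup_map hnd (List.mem_range.mpr hi) (List.mem_range.mpr hj) e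

theorem rw_mul_mem {i : ℕ} (hi : i < 315) {k : ↥P} (hk : k ∈ KSet) : rw' i * k ∈ Ct := by
  apply Subgroup.mul_mem
  · rw [Subgroup.mem_centralizer_singleton_iff]
    exact rw_comm_t hi
  · rw [Subgroup.mem_centralizer_singleton_iff]
    exact hk.1

theorem card_KSet_le (K : Subgroup ↥P) (hK : ∀ k ∈ K, k ∈ KSet) : Nat.card ↥K ≤ 128 := by
  let f : ↥K × Fin 315 → ↥Ct := fun q => ⟨rw' q.2.val * q.1.val, rw_mul_mem q.2.isLt (hK _ q.1.2)⟩
  have hf : Function.Injective f := by
    rintro ⟨k, i⟩ ⟨k', j⟩ e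
    have e1 : rw' i.val * k.val = rw' j.val * k'.val := congrArg Subtype.val e
    have e2 : codeP (rw' i.val) = codeP (rw' j.val) :=
      calc codeP (rw' i.val) = codeP (rw' i.val * k.val) := (codeP_mul _ (hK _ k.2)).symm
        _ = codeP (rw' j.val * k'.val) := by rw [e1]
        _ = codeP (rw' j.val) := codeP_mul _ (hK _ k'.2)
    have hij : i = j := Fin.ext (rw_inj i.isLt j.isLt e2)
    subst hij
    have : k.val = k'.val := mul_left_cancel e1
    rw [Subtype.ext this]
  have h1 := Nat.card_le_card_of_injective f hf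
  rw [Nat.card_prod, card_Ct, Nat.card_fin] at h1
  omega

/-- the subgroup of the configuration -/
def KK : Subgroup ↥P :=
  (Ct ⊓ MulAction.stabilizer ↥P (fpt 13)) ⊓
    MulAction.stabilizer ↥P ({fpt 1, fpt 117} : Finset (Fin 275))

theorem mem_KK_of {c : ↥P} (hc : c ∈ KSet) : c ∈ KK := by
  obtain ⟨hct, h13, h2⟩ := hc
  unfold KK
  rw [Subgroup.mem_inf, Subgroup.mem_inf]
  refine ⟨⟨?_, h13⟩, ?_⟩
  · rw [Subgroup.mem_centralizer_singleton_iff]
    exact hct
  · rw [MulAction.mem_stabilizer_iff]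
    ext x
    rw [Finset.mem_smul_finset]
    simp only [Finset.mem_insert, Finset.mem_singleton]
    constructor
    · rintro ⟨y, hy | hy, rfl⟩
      · rw [hy]
        rcases h2 with ⟨h, -⟩ | ⟨h, -⟩
        · left; exact h
        · right; exact h
      · rw [hy]
        rcases h2 with ⟨-, h⟩ | ⟨-, h⟩
        · right; exact h
        · left; exact h
    · rintro (hx | hx)
      · rcases h2 with ⟨h, -⟩ | ⟨-, h⟩
        · exact ⟨fpt 1, Or.inl rfl, by rw [h, hx]⟩
        · exact ⟨fpt 117, Or.inr rfl, by rw [h, hx]⟩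
      · rcases h2 with ⟨-, h⟩ | ⟨h, -⟩
        · exact ⟨fpt 117, Or.inr rfl, by rw [h, hx]⟩
        · exact ⟨fpt 1, Or.inl rfl, by rw [h, hx]⟩

theorem mem_KSet_of {c : ↥P} (hc : c ∈ KK) : c ∈ KSet := by
  unfold KK at hc
  rw [Subgroup.mem_inf, Subgroup.mem_inf] at hc
  obtain ⟨⟨hct, h13⟩, h2⟩ := hc
  rw [Subgroup.mem_centralizer_singleton_iff] at hct
  rw [MulAction.mem_stabilizer_iff] at h13 h2
  refine ⟨hct, h13, ?_⟩
  have m1 : c • fpt 1 ∈ ({fpt 1, fpt 117} : Finset (Fin 275)) := by
    rw [← h2]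
    exact Finset.smul_mem_smul_finset (Finset.mem_insert_self _ _)
  have m2 : c • fpt 117 ∈ ({fpt 1, fpt 117} : Finset (Fin 275)) := by
    rw [← h2]
    exact Finset.smul_mem_smul_finset (Finset.mem_insert_of_mem (Finset.mem_singleton_self _))
  simp only [Finset.mem_insert, Finset.mem_singleton] at m1 m2
  have hne : c • fpt 1 ≠ c • fpt 117 := by
    intro e
    have e2 : fpt 1 = fpt 117 := by
      have := congrArg (fun x => c⁻¹ • x) e
      simpa using this
    have := fpt_inj (by norm_num) (by norm_num) e2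
    omega
  rcases m1 with m1 | m1 <;> rcases m2 with m2 | m2
  · exact absurd (m1.trans m2.symm) hne
  · exact Or.inl ⟨m1, m2⟩
  · exact Or.inr ⟨m1, m2⟩
  · exact absurd (m1.trans m2.symm) hne

theorem S2_le_KK : S2 ≤ KK := by
  intro s hs
  apply mem_KK_of
  obtain ⟨h13, h2⟩ := S2_fix s hs
  exact ⟨S2_comm_t s hs, h13, h2⟩

theorem KK_eq : S2 = KK := by
  apply Subgroup.eq_of_le_of_card_ge S2_le_KK
  rw [card_S2]
  exact card_KSet_le KK fun k hk => mem_KSet_of hk

/-- the Sylow 2-subgroup is its own normaliser -/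
theorem normalizer_S2 : ∀ g ∈ Subgroup.normalizer (S2 : Set ↥P), g ∈ S2 := by
  intro g hg
  rw [KK_eq]
  exact mem_KK_of ⟨normalizer_comm_t hg, normalizer_fix hg, normalizer_pair hg⟩

/-! ### generation by involutions -/

theorem S2_closed : ∀ T : Subgroup ↥P, T ≤ S2 → t ∈ T → FClosed S2 T → T = S2 := by
  intro T hTS htT hcl
  apply le_antisymm hTS
  -- elements with trivial square
  have hinv : ∀ x, inv0 x = true → sw x ∈ T := by
    intro x hx
    unfold inv0 at hx
    rw [Bool.and_eq_true, beq_iff_eq] at hx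
    obtain ⟨hx1, hx2⟩ := hx
    have hx128 : x < 128 := by simpa [Nat.blt] using hx1
    have hsq : sw x * sw x = 1 := by rw [sw_mul hx128 hx128, hx2, sw_zero]
    by_cases h1 : sw x = 1
    · rw [h1]; exact T.one_mem
    · have ho : orderOf (sw x) = 2 := orderOf_eq_prime (by rw [pow_two]; exact hsq) h1
      obtain ⟨c, hc⟩ := isConj_iff.mp (invol_conj_S2 _ (sw_mem hx128) ho)
      have := hcl t htT c (by rw [hc]; exact sw_mem hx128)
      rwa [hc] at this
  intro x hx
  obtain ⟨i, hi, rfl⟩ := (mem_S2 x).mp hx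
  have h := genC
  unfold genB at h
  rw [allLt_iff] at h
  have h := h i hi
  rw [Bool.and_eq_true, Bool.and_eq_true, Bool.and_eq_true, beq_iff_eq] at h
  obtain ⟨⟨⟨ha, hb⟩, hc⟩, he⟩ := h
  have la : gA i < 128 := by
    unfold inv0 at ha; rw [Bool.and_eq_true] at ha; simpa [Nat.blt] using ha.1
  have lb : gB i < 128 := by
    unfold inv0 at hb; rw [Bool.and_eq_true] at hb; simpa [Nat.blt] using hb.1
  have lc : gC i < 128 := by
    unfold inv0 at hc; rw [Bool.and_eq_true] at hc; simpa [Nat.blt] using hc.1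
  have e : sw i = sw (gA i) * sw (gB i) * sw (gC i) := by
    rw [sw_mul la lb, sw_mul (mtS_lt la lb) lc, he]
  show sw i ∈ T
  rw [e]
  exact T.mul_mem (T.mul_mem (hinv _ ha) (hinv _ hb)) (hinv _ hc)

/-! ### the theorem -/

theorem fact_card : (898128000 : ℕ).factorization 2 = 7 := by
  have h : (898128000 : ℕ) = 2 ^ 7 * 7016625 := by norm_num
  rw [h, Nat.factorization_mul (by norm_num) (by norm_num), Finsupp.add_apply,
    Nat.Prime.factorization_pow Nat.prime_two, Finsupp.single_eq_same,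
    Nat.factorization_eq_zero_of_not_dvd (by norm_num)]

theorem isSimple_P {G' : Type*} [Group G'] [Finite G'] (φ : ↥P ≃* G') (S : Sylow 2 G') :
    (groupFusionSystem (S : Subgroup G')).IsSimple 2 := by
  apply isSimple_of_selfnorm φ S2 t ?_ t_ne t_mem_S2 S2_cen normalizer_S2 S2_closed S
  rw [card_S2, card_P]
  show 2 ^ 7 = 2 ^ (898128000 : ℕ).factorization 2
  rw [fact_card]

end

end Cfsg.Agent.Lib.Helper16.FusMcL
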